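import Cfsg.Agent.EqLemmas
import Cfsg.Agent.S1077
import Cfsg.Agent.S1071
import Cfsg.Agent.Lib.ChevOrth.D4
import Cfsg.Agent.Lib.Triality.Group
import Cfsg.Prelude.Def_LieTwisted

/-!
# The natural module of `³D₄(2)`

* `Tw`  : the octonion relation of a matrix with its two twisted conjugates
* `rep` : an injective map into the isometries of `Σ xᵢyᵢ`, with `Tw` and trivial Dickson sign
-/

set_option autoImplicit false
set_option linter.unusedSectionVars false
set_option maxRecDepth 20000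

namespace Cfsg.Agent.SpecD4Two

open Cfsg Cfsg.Lie Matrix Cfsg.Agent.Orth
open Cfsg.Agent.Triality (IJ omul)
open Cfsg.Agent.ChevOrth.D4 (gen matF MZ stOmega)

variable {K : Type*} [Field K] [CharP K 2]

/-- Reversal of the coordinates. -/
def piB : IJ ≃ IJ where
  toFun := Sum.elim (fun i => .inr i.rev) (fun i => .inl i.rev)
  invFun := Sum.elim (fun i => .inr i.rev) (fun i => .inl i.rev)
  left_inv := by decide
  right_inv := by decide

/-- Exchange of one hyperbolic pair. -/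
def piC : IJ ≃ IJ := Equiv.swap (.inl 3) (.inr 3)

variable (K) in
/-- Squaring. -/
def sq : K →+* K := frobenius K 2

theorem sq_apply (t : K) : sq K t = t ^ 2 := rfl

/-- The first twisted conjugate. -/
def phiB (A : Matrix IJ IJ K) : Matrix IJ IJ K := (A.map (sq K)).submatrix piB piB

/-- The second twisted conjugate. -/
def phiC (A : Matrix IJ IJ K) : Matrix IJ IJ K := (A.map ((sq K).comp (sq K))).submatrix piC piC

theorem phiB_mul (A B : Matrix IJ IJ K) : phiB (A * B) = phiB A * phiB B := by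
  rw [phiB, phiB, phiB, Matrix.map_mul, Matrix.submatrix_mul_equiv]

theorem phiC_mul (A B : Matrix IJ IJ K) : phiC (A * B) = phiC A * phiC B := by
  rw [phiC, phiC, phiC, Matrix.map_mul, Matrix.submatrix_mul_equiv]

theorem phiB_one : phiB (1 : Matrix IJ IJ K) = 1 := by
  rw [phiB, Matrix.map_one _ (map_zero _) (map_one _), Matrix.submatrix_one_equiv]

theorem phiC_one : phiC (1 : Matrix IJ IJ K) = 1 := by
  rw [phiC, Matrix.map_one _ (map_zero _) (map_one _), Matrix.submatrix_one_equiv]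

/-- `A, B, C` preserve the product. -/
def Trip (A B C : Matrix IJ IJ K) : Prop := ∀ x y, omul (A *ᵥ x) (B *ᵥ y) = C *ᵥ omul x y

theorem Trip.mul {A B C A' B' C' : Matrix IJ IJ K} (h : Trip A B C) (h' : Trip A' B' C') :
    Trip (A * A') (B * B') (C * C') := fun x y => by
  rw [← mulVec_mulVec, ← mulVec_mulVec, ← mulVec_mulVec, h, h']

/-- The relation with the twisted conjugates. -/
def Tw (A : Matrix IJ IJ K) : Prop := Trip A (phiB A) (phiC A)

theorem Tw.one : Tw (1 : Matrix IJ IJ K) := fun x y => by simp [phiB_one, phiC_one]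

theorem Tw.mul {A A' : Matrix IJ IJ K} (h : Tw A) (h' : Tw A') : Tw (A * A') := by
  rw [Tw, phiB_mul, phiC_mul]; exact Trip.mul h h'

theorem Tw.of_inverse {A A' : Matrix IJ IJ K} (h : Tw A) (h1 : A * A' = 1) (h2 : A' * A = 1) : Tw A' := by
  intro x y
  have e := h (A' *ᵥ x) (phiB A' *ᵥ y)
  rw [mulVec_mulVec, mulVec_mulVec, h1, ← phiB_mul, h1, phiB_one, one_mulVec, one_mulVec] at e
  rw [e, mulVec_mulVec, ← phiC_mul, h2, phiC_one, one_mulVec]

/-- The matrix of a root element. -/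
def fM (r : ℕ) (t : K) : Matrix IJ IJ K := 1 + t • matF K r

theorem cast_eq_of_natAbs {a b : ℤ} (h : a.natAbs = b.natAbs) : (a : K) = (b : K) := by
  rcases Int.natAbs_eq_natAbs_iff.1 h with rfl | rfl
  · rfl
  · rw [Int.cast_neg, CharTwo.neg_eq]

theorem matF_submatrix {r r' : ℕ} (π : IJ ≃ IJ) (h : ∀ a b : IJ, (MZ r (π a) (π b)).natAbs = (MZ r' a b).natAbs) :
    (matF K r).submatrix π π = matF K r' := by
  ext a b
  exact cast_eq_of_natAbs (h a b)

theorem fM_twist {r r' : ℕ} (σ : K →+* K) (π : IJ ≃ IJ) (t : K)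
    (h : ∀ a b : IJ, (MZ r (π a) (π b)).natAbs = (MZ r' a b).natAbs) :
    ((fM r t).map σ).submatrix π π = fM r' (σ t) := by
  rw [fM, fM, ← matF_submatrix π h]
  ext a b
  simp [Matrix.one_apply, matF, Matrix.map_apply, apply_ite σ]

theorem fM_comm {r s : ℕ} (h : MZ r * MZ s = MZ s * MZ r) (t u : K) : fM r t * fM s u = fM s u * fM r t := by
  have h' : matF K r * matF K s = matF K s * matF K r := by
    unfold matF
    rw [← ChevOrth.D4.castM_mul, ← ChevOrth.D4.castM_mul, h]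
  simp only [fM, add_mul, mul_add, one_mul, mul_one, smul_mul_assoc, mul_smul_comm, h', smul_add, smul_smul,
    mul_comm t u]
  abel

theorem fM_zero (r : ℕ) : fM r (0 : K) = 1 := by simp [fM]

theorem two_nsmul_zero (a : K) : a * 2 = 0 := by rw [CharTwo.two_eq_zero, mul_zero]

theorem fM_mulVec (r : ℕ) (u w : IJ) (hs : (ChevOrth.D4.sg r).natAbs = 1) (hu : ChevOrth.D4.uI r = u)
    (hw : ChevOrth.D4.wI r = w) (t : K) (x : IJ → K) :
    fM r t *ᵥ x = x + Pi.single w (t * x (ChevOrth.D4.opp u)) + Pi.single u (t * x (ChevOrth.D4.opp w)) := by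
  have h1 : ((ChevOrth.D4.sg r : ℤ) : K) = 1 := by
    rw [cast_eq_of_natAbs (b := 1) (by rw [hs]; rfl), Int.cast_one]
  funext a
  rw [fM, Matrix.add_mulVec, Matrix.one_mulVec, Matrix.smul_mulVec, Pi.add_apply, Pi.add_apply, Pi.add_apply,
    add_assoc, Pi.smul_apply, smul_eq_mul]
  congr 1
  simp only [Matrix.mulVec, dotProduct, matF, MZ, Matrix.map_apply, Matrix.of_apply, hu, hw, Int.cast_sub,
    CharTwo.sub_eq_add, add_mul, Finset.sum_add_distrib, ite_and, Pi.single_apply]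
  by_cases h : a = w <;> by_cases h' : a = u <;>
    simp [h, h', apply_ite (Int.cast : ℤ → K), h1, mul_add]

theorem trip18 (t : K) : Trip (fM 18 t) (fM 0 t) (fM 12 t) := by
  intro x y
  simp only [(fM_mulVec 0 (.inr 0) (.inr 1) rfl rfl rfl t),(fM_mulVec 12 (.inl 2) (.inl 3) rfl rfl rfl t),(fM_mulVec 18 (.inl 0) (.inr 1) rfl rfl rfl t)]
  funext i
  rcases i with i | i <;> fin_cases i <;>
    simp [omul, ChevOrth.D4.opp, CharTwo.neg_eq, CharTwo.sub_eq_add] <;>
    ring_nf <;> (try simp [CharTwo.two_eq_zero])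

theorem trip13 (t : K) : Trip (fM 13 t) (fM 13 t) (fM 13 t) := by
  intro x y
  simp only [(fM_mulVec 13 (.inl 2) (.inr 3) rfl rfl rfl t)]
  funext i
  rcases i with i | i <;> fin_cases i <;>
    simp [omul, ChevOrth.D4.opp, CharTwo.neg_eq, CharTwo.sub_eq_add] <;>
    ring_nf <;> (try simp [CharTwo.two_eq_zero])

theorem trip12 (t : K) : Trip (fM 12 t) (fM 18 t) (fM 18 t) := by
  intro x y
  simp only [(fM_mulVec 12 (.inl 2) (.inl 3) rfl rfl rfl t),(fM_mulVec 18 (.inl 0) (.inr 1) rfl rfl rfl t)]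
  funext i
  rcases i with i | i <;> fin_cases i <;>
    simp [omul, ChevOrth.D4.opp, CharTwo.neg_eq, CharTwo.sub_eq_add] <;>
    ring_nf <;> (try simp [CharTwo.two_eq_zero])

theorem trip5 (t : K) : Trip (fM 5 t) (fM 23 t) (fM 11 t) := by
  intro x y
  simp only [(fM_mulVec 11 (.inr 2) (.inr 3) rfl rfl rfl t),(fM_mulVec 23 (.inl 0) (.inl 1) rfl rfl rfl t),(fM_mulVec 5 (.inr 0) (.inl 1) rfl rfl rfl t)]
  funext i
  rcases i with i | i <;> fin_cases i <;>
    simp [omul, ChevOrth.D4.opp, CharTwo.neg_eq, CharTwo.sub_eq_add] <;>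
    ring_nf <;> (try simp [CharTwo.two_eq_zero])

theorem trip10 (t : K) : Trip (fM 10 t) (fM 10 t) (fM 10 t) := by
  intro x y
  simp only [(fM_mulVec 10 (.inr 2) (.inl 3) rfl rfl rfl t)]
  funext i
  rcases i with i | i <;> fin_cases i <;>
    simp [omul, ChevOrth.D4.opp, CharTwo.neg_eq, CharTwo.sub_eq_add] <;>
    ring_nf <;> (try simp [CharTwo.two_eq_zero])

theorem trip11 (t : K) : Trip (fM 11 t) (fM 5 t) (fM 5 t) := by
  intro x y
  simp only [(fM_mulVec 11 (.inr 2) (.inr 3) rfl rfl rfl t),(fM_mulVec 5 (.inr 0) (.inl 1) rfl rfl rfl t)]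
  funext i
  rcases i with i | i <;> fin_cases i <;>
    simp [omul, ChevOrth.D4.opp, CharTwo.neg_eq, CharTwo.sub_eq_add] <;>
    ring_nf <;> (try simp [CharTwo.two_eq_zero])

theorem trip14 (t : K) : Trip (fM 14 t) (fM 14 t) (fM 14 t) := by
  intro x y
  simp only [(fM_mulVec 14 (.inl 1) (.inr 2) rfl rfl rfl t)]
  funext i
  rcases i with i | i <;> fin_cases i <;>
    simp [omul, ChevOrth.D4.opp, CharTwo.neg_eq, CharTwo.sub_eq_add] <;>
    ring_nf <;> (try simp [CharTwo.two_eq_zero])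

theorem trip9 (t : K) : Trip (fM 9 t) (fM 9 t) (fM 9 t) := by
  intro x y
  simp only [(fM_mulVec 9 (.inr 1) (.inl 2) rfl rfl rfl t)]
  funext i
  rcases i with i | i <;> fin_cases i <;>
    simp [omul, ChevOrth.D4.opp, CharTwo.neg_eq, CharTwo.sub_eq_add] <;>
    ring_nf <;> (try simp [CharTwo.two_eq_zero])

/-- A generator on a long root. -/
theorem tw_long {r : ℕ} (hr : r = 14 ∨ r = 9) {t : K} (ht : t ^ 2 = t) : Tw (fM r t) := by
  have hs : sq K t = t := ht
  rcases hr with rfl | rfl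
  · rw [Tw, phiB, phiC, fM_twist _ piB _ (r' := 14) (by decide +kernel),
      fM_twist _ piC _ (r' := 14) (by decide +kernel), RingHom.comp_apply, hs, hs]
    exact trip14 t
  · rw [Tw, phiB, phiC, fM_twist _ piB _ (r' := 9) (by decide +kernel),
      fM_twist _ piC _ (r' := 9) (by decide +kernel), RingHom.comp_apply, hs, hs]
    exact trip9 t

theorem triple_order {a b c : ℕ} (h1 : MZ a * MZ b = MZ b * MZ a) (h2 : MZ a * MZ c = MZ c * MZ a)
    (s t u : K) : fM a s * (fM b t * fM c u) = fM b t * fM c u * fM a s := by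
  rw [← mul_assoc, fM_comm h1, mul_assoc, fM_comm h2, ← mul_assoc]

/-- A generator on short roots. -/
theorem tw_short (h8 : ∀ t : K, t ^ 8 = t) (t : K) :
    Tw (fM 18 t * (fM 13 (t ^ 2) * fM 12 (t ^ 4))) ∧ Tw (fM 5 t * (fM 10 (t ^ 2) * fM 11 (t ^ 4))) := by
  have e1 : sq K t = t ^ 2 := rfl
  have e2 : sq K (t ^ 2) = t ^ 4 := by rw [sq_apply, ← pow_mul]
  have e4 : sq K (t ^ 4) = t := by rw [sq_apply, ← pow_mul]; exact h8 t
  constructor
  · rw [Tw, phiB_mul, phiB_mul, phiC_mul, phiC_mul]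
    unfold phiB phiC
    rw [fM_twist _ piB _ (r := 18) (r' := 13) (by decide +kernel),
      fM_twist _ piB _ (r := 13) (r' := 18) (by decide +kernel),
      fM_twist _ piB _ (r := 12) (r' := 0) (by decide +kernel),
      fM_twist _ piC _ (r := 18) (r' := 18) (by decide +kernel),
      fM_twist _ piC _ (r := 13) (r' := 12) (by decide +kernel),
      fM_twist _ piC _ (r := 12) (r' := 13) (by decide +kernel)]
    simp only [RingHom.comp_apply, e1, e2, e4]
    have h := Trip.mul (trip13 (t ^ 2)) (Trip.mul (trip12 (t ^ 4)) (trip18 t))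
    have ec : fM 13 (t ^ 2) * (fM 18 (t ^ 4) * fM 12 t) = fM 18 (t ^ 4) * (fM 12 t * fM 13 (t ^ 2)) := by
      rw [← mul_assoc (fM 18 (t ^ 4)), triple_order (by decide +kernel) (by decide +kernel)]
    rw [ec, ← mul_assoc (fM 13 (t ^ 2)) (fM 12 (t ^ 4)),
      ← triple_order (by decide +kernel) (by decide +kernel)] at h
    exact h
  · rw [Tw, phiB_mul, phiB_mul, phiC_mul, phiC_mul]
    unfold phiB phiC
    rw [fM_twist _ piB _ (r := 5) (r' := 10) (by decide +kernel),
      fM_twist _ piB _ (r := 10) (r' := 5) (by decide +kernel),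
      fM_twist _ piB _ (r := 11) (r' := 23) (by decide +kernel),
      fM_twist _ piC _ (r := 5) (r' := 5) (by decide +kernel),
      fM_twist _ piC _ (r := 10) (r' := 11) (by decide +kernel),
      fM_twist _ piC _ (r := 11) (r' := 10) (by decide +kernel)]
    simp only [RingHom.comp_apply, e1, e2, e4]
    have h := Trip.mul (trip10 (t ^ 2)) (Trip.mul (trip11 (t ^ 4)) (trip5 t))
    have ec : fM 10 (t ^ 2) * (fM 5 (t ^ 4) * fM 11 t) = fM 5 (t ^ 4) * (fM 11 t * fM 10 (t ^ 2)) := by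
      rw [← mul_assoc (fM 5 (t ^ 4)), triple_order (by decide +kernel) (by decide +kernel)]
    rw [ec, ← mul_assoc (fM 10 (t ^ 2)) (fM 11 (t ^ 4)),
      ← triple_order (by decide +kernel) (by decide +kernel)] at h
    exact h

/-! ### the map -/

section Map

variable [Fintype K]

/-- The isometries. -/
abbrev O8 (K : Type*) [Field K] : Type _ := IsoGrp (quadPlus 4 K)

omit [CharP K 2] [Fintype K] in
/-- Root elements go to root elements. -/
theorem exists_psi [Fintype K] [CharP K 2] : ∃ ψ : ↥(chevD4.group K) →* O8 K,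
    ∀ (g : ↥(chevD4.group K)) (w : List (ℕ × K)), (∀ p ∈ w, p.1 < 24) →
      ((g : GL chevD4.Idx K) : Matrix chevD4.Idx chevD4.Idx K) = chevD4.wordMat K w →
      ((ψ g : GL IJ K) : Matrix IJ IJ K) = (w.map fun p => fM p.1 p.2).prod ∧
        (ψ g) ∈ Omega K ⇑(quadPlus 4 K) := by
  obtain ⟨θ, hθ, hker, hx⟩ := Cfsg.Agent.S1077.result (K := K) chevD4 (by simp)
  have hbot : Subgroup.center ↥(Omega K ⇑(quadPlus 4 K)) = ⊥ :=
    center_omega_eq_bot (Triality.base4 (F := K)).nd (by simp) (Triality.base4 (F := K)).hE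
      (.inr CharTwo.two_eq_zero)
  have hle : θ.ker ≤ (stOmega (F := K)).ker := by
    rw [hker]
    intro z hz
    rw [MonoidHom.mem_ker, ← Subgroup.mem_bot, ← hbot, Subgroup.mem_center_iff]
    intro k
    obtain ⟨x, rfl⟩ := ChevOrth.D4.stOmega_surjective k
    rw [← map_mul, ← map_mul, Subgroup.mem_center_iff.1 hz x]
  let ψ₀ : ↥(chevD4.group K) →* ↥(Omega K ⇑(quadPlus 4 K)) := θ.liftOfSurjective hθ ⟨stOmega, hle⟩
  have h0 : ∀ x, ψ₀ (θ x) = stOmega x := fun x => MonoidHom.liftOfRightInverse_comp_apply θ _ _ ⟨stOmega, hle⟩ x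
  refine ⟨(Omega K ⇑(quadPlus 4 K)).subtype.comp ψ₀, fun g w hw hg => ?_⟩
  set z : chevD4.SteinbergGroup K := (w.map fun p => chevD4.stGen K p.1 p.2).prod with hz
  have e : g = θ z := by
    apply Subtype.ext; apply Units.ext
    rw [hg, hz, map_list_prod, ← Subgroup.coe_subtype, map_list_prod, ← Units.coeHom_apply, map_list_prod,
      List.map_map, List.map_map, List.map_map, ChevalleyDatum.wordMat]
    congr 1
    exact List.map_congr_left fun p hp => (hx p.1 p.2 (lt_of_lt_of_eq (hw p hp) rfl)).symm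
  refine ⟨?_, (ψ₀ g).2⟩
  rw [MonoidHom.comp_apply, e, h0, hz, map_list_prod, map_list_prod, ← Subgroup.coe_subtype, map_list_prod,
    ← Units.coeHom_apply, map_list_prod, List.map_map, List.map_map, List.map_map, List.map_map]
  congr 1
  refine List.map_congr_left fun p hp => ?_
  show ((((stOmega (chevD4.stGen K p.1 p.2) : O8 K)) : GL IJ K) : Matrix IJ IJ K) = _
  rw [ChevOrth.D4.stOmega_gen]
  exact ChevOrth.D4.gen_mat (hw p hp) p.2

theorem pow_eight (hK : Fintype.card K = 8) (t : K) : t ^ 8 = t := by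
  rw [← hK]; exact FiniteField.pow_card t

theorem x_gen_mem {p : ℕ × K} (hp : p.1 < 24) :
    ∃ g : GL chevD4.Idx K, g ∈ chevD4.group K ∧ (g : Matrix chevD4.Idx chevD4.Idx K) = chevD4.x K p.1 p.2 := by
  have h : p.1 < chevD4.nroots := lt_of_lt_of_eq hp rfl
  refine ⟨ChevBN.xg Chev.DataD4.good K p.1 p.2, ChevBN.xg_mem_group Chev.DataD4.good _ _, ?_⟩
  rw [ChevBN.coe_xg]

theorem d4Words_lt {w : List (ℕ × K)} (hw : w ∈ d4Words K 2) : ∀ p ∈ w, p.1 < 24 := by
  rintro p hp
  rcases hw with ⟨t, -, r, hr, rfl⟩ | ⟨t, rs, hrs, rfl⟩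
  · simp only [List.mem_cons, List.not_mem_nil, or_false] at hr hp
    rcases hr with rfl | rfl <;> subst hp <;> simp [d4p2, d4m2]
  · simp only [List.mem_cons, List.not_mem_nil, or_false] at hrs hp
    rcases hrs with rfl | rfl <;> rcases hp with rfl | rfl | rfl <;> simp [d4p1, d4p3, d4p4, d4m1, d4m3, d4m4]

theorem exists_wordMem : ∀ l : List (ℕ × K), (∀ p ∈ l, p.1 < 24) →
    ∃ h : GL chevD4.Idx K, h ∈ chevD4.group K ∧ (h : Matrix chevD4.Idx chevD4.Idx K) = chevD4.wordMat K l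
  | [], _ => ⟨1, one_mem _, rfl⟩
  | a :: l, hl => by
    obtain ⟨h, hh, e⟩ := exists_wordMem l fun p hp => hl p (List.mem_cons_of_mem _ hp)
    obtain ⟨h', hh', e'⟩ := x_gen_mem (hl a List.mem_cons_self)
    exact ⟨h' * h, mul_mem hh' hh, by rw [Units.val_mul, e, e']; rfl⟩

theorem exists_wordGL (l : List (ℕ × K)) (hl : ∀ p ∈ l, p.1 < 24) :
    ∃ h : GL chevD4.Idx K, (h : Matrix chevD4.Idx chevD4.Idx K) = chevD4.wordMat K l :=
  (exists_wordMem l hl).imp fun _ h => h.2

theorem twisted_le : twistedD4 K 2 ≤ chevD4.group K := by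
  rw [twistedD4, ChevalleyDatum.genSubgroup, Subgroup.closure_le]
  rintro g ⟨w, hw, hg⟩
  obtain ⟨h, hh, e⟩ := exists_wordMem w (d4Words_lt hw)
  rwa [show g = h from Units.ext (hg.trans e.symm)]

/-- The natural representation. -/
theorem exists_rep (hK : Fintype.card K = 8) : ∃ ρ : ↥(twistedD4 K 2) →* O8 K,
    Function.Injective ρ ∧ (∀ g, Tw ((ρ g : GL IJ K) : Matrix IJ IJ K)) ∧ (∀ g, dick (ρ g) = 1) ∧
    ∀ (g : ↥(twistedD4 K 2)) (w : List (ℕ × K)), (∀ p ∈ w, p.1 < 24) →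
      ((g : GL chevD4.Idx K) : Matrix chevD4.Idx chevD4.Idx K) = chevD4.wordMat K w →
      ((ρ g : GL IJ K) : Matrix IJ IJ K) = (w.map fun p => fM p.1 p.2).prod := by
  obtain ⟨ψ, hψ⟩ := exists_psi (K := K)
  let ρ : ↥(twistedD4 K 2) →* O8 K := ψ.comp (Subgroup.inclusion twisted_le)
  have hword : ∀ (g : ↥(twistedD4 K 2)) (w : List (ℕ × K)), (∀ p ∈ w, p.1 < 24) →
      ((g : GL chevD4.Idx K) : Matrix chevD4.Idx chevD4.Idx K) = chevD4.wordMat K w →
      ((ρ g : GL IJ K) : Matrix IJ IJ K) = (w.map fun p => fM p.1 p.2).prod :=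
    fun g w hw hg => (hψ (Subgroup.inclusion twisted_le g) w hw hg).1
  have h8 := pow_eight hK
  obtain ⟨hsimple, hnc⟩ := Cfsg.Agent.S1071.result (K := K) (q := 2) ⟨2, 1, Nat.prime_iff.1 Nat.prime_two, one_pos, rfl⟩ hK
  refine ⟨ρ, ?_, ?_, ?_, hword⟩
  · rcases hsimple.eq_bot_or_eq_top_of_normal ρ.ker inferInstance with h | h
    · exact (MonoidHom.ker_eq_bot_iff ρ).1 h
    · exfalso
      have hw : [(14, (1 : K))] ∈ d4Words K 2 := Or.inl ⟨1, one_pow _, 14, List.mem_cons_self, rfl⟩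
      obtain ⟨g, hg, e⟩ := x_gen_mem (K := K) (p := (14, (1 : K))) (by norm_num)
      have e' : (g : Matrix chevD4.Idx chevD4.Idx K) = chevD4.wordMat K [(14, (1 : K))] := by
        rw [e]; simp [ChevalleyDatum.wordMat]
      have hgm : g ∈ twistedD4 K 2 := Subgroup.subset_closure ⟨_, hw, e'⟩
      have h1 := hword ⟨g, hgm⟩ [(14, (1 : K))] (by simp) e'
      rw [(MonoidHom.mem_ker).1 (h ▸ Subgroup.mem_top (⟨g, hgm⟩ : ↥(twistedD4 K 2)))] at h1
      have h2 := congrFun (congrFun h1 (.inr 2)) (.inr 1)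
      simp [fM, matF, MZ, ChevOrth.D4.uI, ChevOrth.D4.wI, ChevOrth.D4.sg, ChevOrth.D4.bas, ChevOrth.D4.opp,
        ChevOrth.D4.rootTab] at h2
      exact h2 (by decide)
  · suffices h : ∀ g (hg : g ∈ twistedD4 K 2), Tw ((ρ ⟨g, hg⟩ : GL IJ K) : Matrix IJ IJ K) from fun g => h g.1 g.2
    intro g hg
    induction hg using Subgroup.closure_induction with
    | mem g h =>
      obtain ⟨w, hw, e⟩ := h
      rw [hword _ w (d4Words_lt hw) e]
      rcases hw with ⟨t, ht, r, hr, rfl⟩ | ⟨t, rs, hrs, rfl⟩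
      · simp only [List.mem_cons, List.not_mem_nil, or_false] at hr
        rw [List.map_cons, List.map_nil, List.prod_cons, List.prod_nil, mul_one]
        exact tw_long hr ht
      · simp only [List.mem_cons, List.not_mem_nil, or_false] at hrs
        simp only [List.map_cons, List.map_nil, List.prod_cons, List.prod_nil, mul_one]
        rcases hrs with rfl | rfl
        · exact (tw_short h8 t).1
        · exact (tw_short h8 t).2
    | one => exact (congrArg (fun o : O8 K => ((o : GL IJ K) : Matrix IJ IJ K)) (map_one ρ)) ▸ Tw.one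
    | mul a b ha hb iha ihb =>
      exact (congrArg (fun o : O8 K => ((o : GL IJ K) : Matrix IJ IJ K))
        (map_mul ρ ⟨a, ha⟩ ⟨b, hb⟩)).symm ▸ iha.mul ihb
    | inv a ha iha =>
      refine iha.of_inverse ?_ ?_
      · show ((ρ ⟨a, ha⟩ * ρ ⟨a, ha⟩⁻¹ : O8 K) : GL IJ K).1 = 1
        rw [← map_mul, mul_inv_cancel, map_one]; rfl
      · show ((ρ ⟨a, ha⟩⁻¹ * ρ ⟨a, ha⟩ : O8 K) : GL IJ K).1 = 1
        rw [← map_mul, inv_mul_cancel, map_one]; rfl
  · intro g
    have hG : Orth.Good (quadPlus 4 K) := Orth.Good.of_card (Triality.base4 (F := K)).nd (.inr (by simp))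
    let f : ↥(twistedD4 K 2) →* ℤ := (Orth.dickHom hG).comp ρ
    rcases hsimple.eq_bot_or_eq_top_of_normal f.ker inferInstance with h | h
    · exfalso
      refine hnc ⟨⟨fun a b => ?_⟩⟩
      apply mul_inv_eq_one.1
      rw [← Subgroup.mem_bot, ← h, MonoidHom.mem_ker, map_mul]
      have e : f (a * b) = f (b * a) := by rw [map_mul, map_mul, mul_comm]
      rw [e, ← map_mul, mul_inv_cancel, map_one]
    · exact (MonoidHom.mem_ker).1 (h ▸ Subgroup.mem_top g)

end Map

end Cfsg.Agent.SpecD4Two
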