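import Cfsg.Agent.EqLemmas
import Cfsg.Agent.Lib.SpecD4Two.Rep
import Cfsg.Agent.Lib.Forms.Symplectic
import Mathlib.LinearAlgebra.Eigenspace.Zero
import Mathlib.LinearAlgebra.Eigenspace.Triangularizable

/-!
# Fixed spaces of elements of odd order

* `Ss A n` : an isometry with `Aⁿ = 1`, `n` odd; `fixed A` : its fixed space
* `exists_nonsing`, `even_fixed` : the fixed space is non-degenerate
* `charpoly_sq` : with `Tw A` and a fixed vector the characteristic polynomial has coefficients in `𝔽₂`
* `fixed_ne_six` : for `Tw A` the fixed space is not of dimension six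
-/

set_option autoImplicit false
set_option linter.unusedSectionVars false

namespace Cfsg.Agent.SpecD4Two

open Cfsg Matrix Cfsg.Agent.Orth Module Polynomial
open Cfsg.Agent.Triality (IJ omul oConj)

variable {K : Type*} [Field K] [CharP K 2]

/-- The quadratic form. -/
abbrev Qf (x : IJ → K) : K := quadFormPlus 4 K x

/-- Its polar form. -/
def pol (x y : IJ → K) : K := ∑ i : Fin 4, (x (.inl i) * y (.inr i) + y (.inl i) * x (.inr i))

theorem Qf_add (x y : IJ → K) : Qf (x + y) = Qf x + Qf y + pol x y := by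
  simp only [Qf, quadFormPlus, pol, Pi.add_apply, ← Finset.sum_add_distrib]
  exact Finset.sum_congr rfl fun i _ => by ring

theorem Qf_smul (c : K) (x : IJ → K) : Qf (c • x) = c * c * Qf x := by
  simp only [Qf, quadFormPlus, Pi.smul_apply, smul_eq_mul, Finset.mul_sum]
  exact Finset.sum_congr rfl fun i _ => by ring

theorem pol_comm (x y : IJ → K) : pol x y = pol y x := by
  simp only [pol]; exact Finset.sum_congr rfl fun i _ => by ring

theorem pol_add_right (x y z : IJ → K) : pol x (y + z) = pol x y + pol x z := by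
  simp only [pol, Pi.add_apply, ← Finset.sum_add_distrib]
  exact Finset.sum_congr rfl fun i _ => by ring

theorem pol_smul_right (c : K) (x y : IJ → K) : pol x (c • y) = c * pol x y := by
  simp only [pol, Pi.smul_apply, smul_eq_mul, Finset.mul_sum]
  exact Finset.sum_congr rfl fun i _ => by ring

theorem pol_add_left (x y z : IJ → K) : pol (x + y) z = pol x z + pol y z := by
  rw [pol_comm, pol_add_right, pol_comm z x, pol_comm z y]

theorem pol_smul_left (c : K) (x y : IJ → K) : pol (c • x) y = c * pol x y := by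
  rw [pol_comm, pol_smul_right, pol_comm]

theorem pol_zero_right (x : IJ → K) : pol x 0 = 0 := by simp [pol]

theorem pol_self (x : IJ → K) : pol x x = 0 := by
  simp [pol, CharTwo.add_self_eq_zero]

theorem pol_sum_right {ι : Type*} (s : Finset ι) (x : IJ → K) (f : ι → IJ → K) :
    pol x (∑ i ∈ s, f i) = ∑ i ∈ s, pol x (f i) := by
  classical
  induction s using Finset.induction_on with
  | empty => rw [Finset.sum_empty, Finset.sum_empty, pol_zero_right]
  | insert a s ha ih => rw [Finset.sum_insert ha, Finset.sum_insert ha, pol_add_right, ih]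

theorem eq_zero_of_pol {x : IJ → K} (h : ∀ y, pol x y = 0) : x = 0 := by
  funext j
  rcases j with j | j
  · simpa [pol, Pi.single_apply] using h (Pi.single (.inr j) 1)
  · simpa [pol, Pi.single_apply] using h (Pi.single (.inl j) 1)

/-! ### octonions -/

theorem oQ_omul (x y : IJ → K) : Qf (omul x y) = Qf x * Qf y := by
  simp [Qf, quadFormPlus, omul, Fin.sum_univ_four, CharTwo.neg_eq, CharTwo.sub_eq_add]
  ring_nf
  simp [CharTwo.two_eq_zero]

theorem omul_oConj (x y : IJ → K) : omul (oConj x) (omul x y) = Qf x • y := by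
  funext i
  rcases i with i | i <;> fin_cases i <;>
    simp [Qf, quadFormPlus, omul, oConj, Fin.sum_univ_four, CharTwo.neg_eq, CharTwo.sub_eq_add] <;>
    ring_nf <;> (try simp [CharTwo.two_eq_zero])

theorem omul_omul_oConj (x y : IJ → K) : omul (omul x y) (oConj y) = Qf y • x := by
  funext i
  rcases i with i | i <;> fin_cases i <;>
    simp [Qf, quadFormPlus, omul, oConj, Fin.sum_univ_four, CharTwo.neg_eq, CharTwo.sub_eq_add] <;>
    ring_nf <;> (try simp [CharTwo.two_eq_zero])

theorem omul_add_right (x y z : IJ → K) : omul x (y + z) = omul x y + omul x z := by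
  funext i; rcases i with i | i <;> fin_cases i <;> simp [omul] <;> ring

theorem omul_smul_right (c : K) (x y : IJ → K) : omul x (c • y) = c • omul x y := by
  funext i; rcases i with i | i <;> fin_cases i <;> simp [omul] <;> ring

theorem omul_add_left (x y z : IJ → K) : omul (x + y) z = omul x z + omul y z := by
  funext i; rcases i with i | i <;> fin_cases i <;> simp [omul] <;> ring

theorem omul_smul_left (c : K) (x y : IJ → K) : omul (c • x) y = c • omul x y := by
  funext i; rcases i with i | i <;> fin_cases i <;> simp [omul] <;> ring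

theorem pol_omul (x y z : IJ → K) : pol (omul x y) (omul x z) = Qf x * pol y z := by
  have h := oQ_omul x (y + z)
  rw [omul_add_right, Qf_add, Qf_add, oQ_omul, oQ_omul] at h
  linear_combination h

/-- Left multiplication. -/
def lmul (v : IJ → K) : (IJ → K) →ₗ[K] (IJ → K) where
  toFun := omul v
  map_add' := omul_add_right v
  map_smul' c y := omul_smul_right c v y

/-- Right multiplication. -/
def rmul (u : IJ → K) : (IJ → K) →ₗ[K] (IJ → K) where
  toFun x := omul x u
  map_add' x y := omul_add_left x y u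
  map_smul' c x := omul_smul_left c x u

theorem lmul_injective {v : IJ → K} (hv : Qf v ≠ 0) : Function.Injective (lmul v) := fun a b h => by
  have h' : Qf v • a = Qf v • b := by rw [← omul_oConj, ← omul_oConj]; exact congrArg _ h
  exact smul_right_injective _ hv h'

theorem rmul_injective {u : IJ → K} (hu : Qf u ≠ 0) : Function.Injective (rmul u) := fun a b h => by
  have h' : Qf u • a = Qf u • b := by
    rw [← omul_omul_oConj, ← omul_omul_oConj]; exact congrArg (fun x => omul x (oConj u)) h
  exact smul_right_injective _ hu h'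

/-! ### fixed spaces -/

/-- An isometry of odd exponent `n`. -/
structure Ss (A : Matrix IJ IJ K) (n : ℕ) : Prop where
  iso : ∀ x, Qf (A *ᵥ x) = Qf x
  pow : A ^ n = 1
  odd : Odd n

/-- The fixed space. -/
def fixed (A : Matrix IJ IJ K) : Submodule K (IJ → K) where
  carrier := {v | A *ᵥ v = v}
  add_mem' := fun {a b} ha hb => by rw [Set.mem_ofPred_eq, mulVec_add, ha, hb]
  zero_mem' := mulVec_zero A
  smul_mem' := fun c v hv => by rw [Set.mem_ofPred_eq, mulVec_smul, hv]

theorem mem_fixed {A : Matrix IJ IJ K} {v : IJ → K} : v ∈ fixed A ↔ A *ᵥ v = v := Iff.rfl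

/-- The average. -/
def avg (A : Matrix IJ IJ K) (n : ℕ) (v : IJ → K) : IJ → K := ∑ i ∈ Finset.range n, A ^ i *ᵥ v

theorem cast_odd {n : ℕ} (h : Odd n) : (n : K) = 1 := by
  obtain ⟨k, rfl⟩ := h
  rw [Nat.cast_add, Nat.cast_mul, Nat.cast_ofNat, CharTwo.two_eq_zero, zero_mul, zero_add, Nat.cast_one]

theorem pow_fix {A : Matrix IJ IJ K} {v : IJ → K} (hv : A *ᵥ v = v) (i : ℕ) : A ^ i *ᵥ v = v := by
  induction i with
  | zero => rw [pow_zero, one_mulVec]
  | succ i ih => rw [pow_succ, ← mulVec_mulVec, hv, ih]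

namespace Ss

variable {A : Matrix IJ IJ K} {n : ℕ}

theorem pol_mulVec (h : Ss A n) (x y : IJ → K) : pol (A *ᵥ x) (A *ᵥ y) = pol x y := by
  have e := h.iso (x + y)
  rw [mulVec_add, Qf_add, Qf_add, h.iso, h.iso] at e
  exact add_left_cancel e

theorem pol_pow (h : Ss A n) {w : IJ → K} (hw : w ∈ fixed A) (y : IJ → K) (i : ℕ) :
    pol w (A ^ i *ᵥ y) = pol w y := by
  induction i with
  | zero => rw [pow_zero, one_mulVec]
  | succ i ih =>
    rw [pow_succ', ← mulVec_mulVec]
    conv_lhs => rw [← mem_fixed.1 hw]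
    rw [h.pol_mulVec, ih]

theorem pol_avg (h : Ss A n) {w : IJ → K} (hw : w ∈ fixed A) (y : IJ → K) :
    pol w (avg A n y) = pol w y := by
  rw [avg, pol_sum_right, Finset.sum_congr rfl fun i _ => h.pol_pow hw y i, Finset.sum_const,
    Finset.card_range, nsmul_eq_mul, cast_odd h.odd, one_mul]

theorem avg_mem (h : Ss A n) (v : IJ → K) : avg A n v ∈ fixed A := by
  rw [mem_fixed, avg, mulVec_sum, ← sub_eq_zero, ← Finset.sum_sub_distrib]
  have : ∀ i, A *ᵥ (A ^ i *ᵥ v) = A ^ (i + 1) *ᵥ v := fun i => by rw [mulVec_mulVec, pow_succ']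
  rw [Finset.sum_congr rfl fun i _ => by rw [this], Finset.sum_range_sub (fun i => A ^ i *ᵥ v),
    h.pow, pow_zero, sub_self]

theorem avg_fix (h : Ss A n) {v : IJ → K} (hv : v ∈ fixed A) : avg A n v = v := by
  rw [avg, Finset.sum_congr rfl fun i _ => pow_fix (mem_fixed.1 hv) i, Finset.sum_const, Finset.card_range,
    ← Nat.cast_smul_eq_nsmul K, cast_odd h.odd, one_smul]

/-- The fixed space is non-degenerate. -/
theorem exists_pol_ne (h : Ss A n) {w : IJ → K} (hw : w ∈ fixed A) (h0 : w ≠ 0) :
    ∃ w' ∈ fixed A, pol w w' ≠ 0 := by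
  by_contra hc
  push Not at hc
  exact h0 (eq_zero_of_pol fun y => by rw [← h.pol_avg hw]; exact hc _ (h.avg_mem y))

theorem exists_nonsing (h : Ss A n) (hne : fixed A ≠ ⊥) : ∃ w ∈ fixed A, Qf w ≠ 0 := by
  obtain ⟨w, hw, h0⟩ := Submodule.exists_mem_ne_zero_of_ne_bot hne
  obtain ⟨w', hw', hp⟩ := h.exists_pol_ne hw h0
  by_contra hc
  push Not at hc
  have e := Qf_add w w'
  rw [hc _ (add_mem hw hw'), hc _ hw, hc _ hw', add_zero, zero_add] at e
  exact hp e.symm

/-- The polar form on the fixed space. -/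
def polW (_h : Ss A n) : LinearMap.BilinForm K (fixed A) :=
  LinearMap.mk₂ K (fun a b => pol a.1 b.1) (fun _ _ _ => pol_add_left _ _ _) (fun _ _ _ => pol_smul_left _ _ _)
    (fun _ _ _ => pol_add_right _ _ _) (fun _ _ _ => pol_smul_right _ _ _)

theorem even_fixed (h : Ss A n) : Even (finrank K (fixed A)) := by
  have hk : LinearMap.ker h.polW = ⊥ := by
    rw [LinearMap.ker_eq_bot']
    intro w hw
    by_contra h0
    obtain ⟨w', hw', hp⟩ := h.exists_pol_ne w.2 fun e => h0 (Subtype.ext e)
    exact hp (LinearMap.congr_fun hw ⟨w', hw'⟩)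
  have := Forms.even_finrank_sub_ker h.polW fun a => pol_self a.1
  rwa [hk, finrank_bot, Nat.sub_zero] at this

/-- The vectors orthogonal to the fixed space form a complement. -/
theorem exists_perp_nonsing (h : Ss A n) (hlt : finrank K (fixed A) < 8) :
    ∃ u, (∀ w ∈ fixed A, pol w u = 0) ∧ Qf u ≠ 0 := by
  have hne : fixed A ≠ ⊤ := fun e => by
    rw [e, finrank_top, Module.finrank_fintype_fun_eq_card] at hlt; simp at hlt
  obtain ⟨x, hx⟩ : ∃ x, x ∉ fixed A := by
    by_contra hc; push Not at hc; exact hne (eq_top_iff.2 fun x _ => hc x)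
  let z := x + avg A n x
  have hz : ∀ w ∈ fixed A, pol w z = 0 := fun w hw => by
    rw [pol_add_right, h.pol_avg hw, CharTwo.add_self_eq_zero]
  have hz0 : z ≠ 0 := fun e => hx (by
    rw [show x = avg A n x by
      funext i; exact CharTwo.add_eq_zero.1 (congrFun e i)]
    exact h.avg_mem x)
  obtain ⟨y, hy⟩ : ∃ y, pol z y ≠ 0 := by
    by_contra hc; push Not at hc; exact hz0 (eq_zero_of_pol hc)
  let z' := y + avg A n y
  have hz' : ∀ w ∈ fixed A, pol w z' = 0 := fun w hw => by
    rw [pol_add_right, h.pol_avg hw, CharTwo.add_self_eq_zero]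
  have hp : pol z z' ≠ 0 := by
    rwa [pol_add_right, pol_comm z (avg A n y), hz _ (h.avg_mem y), add_zero]
  by_contra hc
  push Not at hc
  have e := Qf_add z z'
  rw [hc z hz, hc z' hz', hc (z + z') fun w hw => by rw [pol_add_right, hz w hw, hz' w hw, add_zero],
    add_zero, zero_add] at e
  exact hp e.symm

/-- Dimension of the orthogonal complement. -/
theorem finrank_le_of_orth (h : Ss A n) (S : Submodule K (IJ → K))
    (hS : ∀ z ∈ S, ∀ w ∈ fixed A, pol w z = 0) : finrank K S + finrank K (fixed A) ≤ 8 := by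
  have hd : S ⊓ fixed A = ⊥ := by
    rw [eq_bot_iff]
    rintro z ⟨h1, h2⟩
    rw [Submodule.mem_bot]
    by_contra h0
    obtain ⟨w', hw', hp⟩ := h.exists_pol_ne h2 h0
    exact hp (by rw [pol_comm]; exact hS z h1 w' hw')
  have := Submodule.finrank_sup_add_finrank_inf_eq S (fixed A)
  rw [hd, finrank_bot, add_zero] at this
  rw [← this]
  exact (Submodule.finrank_le _).trans (by rw [Module.finrank_fintype_fun_eq_card]; simp)

end Ss

/-! ### the twisted conjugates -/

section Twist

variable [Fintype K]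

theorem twist_mulVec (σ : K →+* K) (π : IJ ≃ IJ) (A : Matrix IJ IJ K) (z : IJ → K) :
    (A.map σ).submatrix π π *ᵥ ((⇑σ ∘ z) ∘ π) = (⇑σ ∘ (A *ᵥ z)) ∘ π := by
  rw [Matrix.submatrix_mulVec_equiv]
  funext i
  simp only [Function.comp_assoc, Equiv.self_comp_symm, Function.comp_id, Function.comp_apply]
  exact (RingHom.map_mulVec σ A z (π i)).symm

theorem twist_surj (σ : K →+* K) (π : IJ ≃ IJ) (y : IJ → K) : ∃ z : IJ → K, (⇑σ ∘ z) ∘ π = y := by
  obtain ⟨τ, hτ⟩ := Function.Surjective.hasRightInverse (Finite.injective_iff_surjective.1 σ.injective)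
  exact ⟨fun i => τ (y (π.symm i)), funext fun i => by simp [hτ _]⟩

theorem Ss.twist {A : Matrix IJ IJ K} {n : ℕ} (h : Ss A n) (σ : K →+* K) (π : IJ ≃ IJ)
    (hπ : ∀ x : IJ → K, Qf (x ∘ π) = Qf x) : Ss ((A.map σ).submatrix π π) n := by
  refine ⟨fun y => ?_, ?_, h.odd⟩
  · obtain ⟨z, rfl⟩ := twist_surj σ π y
    have hQ : ∀ x : IJ → K, Qf (⇑σ ∘ x) = σ (Qf x) := fun x => by simp [Qf, quadFormPlus, map_sum]
    rw [twist_mulVec, hπ, hπ, hQ, hQ, h.iso]
  · have e : ∀ i : ℕ, ((A.map σ).submatrix π π) ^ i = ((A ^ i).map σ).submatrix π π := fun i => by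
      induction i with
      | zero => rw [pow_zero, pow_zero, Matrix.map_one _ (map_zero _) (map_one _), Matrix.submatrix_one_equiv]
      | succ i ih => rw [pow_succ, pow_succ, ih, Matrix.map_mul, Matrix.submatrix_mul_equiv]
    rw [e, h.pow, Matrix.map_one _ (map_zero _) (map_one _), Matrix.submatrix_one_equiv]

theorem finrank_fixed_twist (A : Matrix IJ IJ K) (σ : K →+* K) (π : IJ ≃ IJ) :
    finrank K (fixed ((A.map σ).submatrix π π)) = finrank K (fixed A) := by
  let f : fixed A → fixed ((A.map σ).submatrix π π) := fun z =>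
    ⟨(⇑σ ∘ z.1) ∘ π, by rw [mem_fixed, twist_mulVec, mem_fixed.1 z.2]⟩
  have hinj : Function.Injective f := fun a b e => by
    refine Subtype.ext (funext fun i => σ.injective ?_)
    have := congrFun (congrArg Subtype.val e) (π.symm i)
    simpa [f] using this
  have hsurj : Function.Surjective f := fun y => by
    obtain ⟨z, hz⟩ := twist_surj σ π y.1
    refine ⟨⟨z, ?_⟩, Subtype.ext hz⟩
    have e := mem_fixed.1 y.2
    rw [← hz, twist_mulVec] at e
    exact funext fun i => σ.injective (by simpa using congrFun e (π.symm i))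
  have h := Nat.card_congr (Equiv.ofBijective f ⟨hinj, hsurj⟩)
  rw [Module.natCard_eq_pow_finrank (K := K) (V := fixed A),
    Module.natCard_eq_pow_finrank (K := K) (V := fixed ((A.map σ).submatrix π π))] at h
  exact (Nat.pow_right_injective (Finite.one_lt_card (α := K)) h).symm

theorem Qf_piB (x : IJ → K) : Qf (x ∘ piB) = Qf x := by
  simp [Qf, quadFormPlus, piB, Fin.sum_univ_four]; ring

theorem Qf_piC (x : IJ → K) : Qf (x ∘ piC) = Qf x := by
  simp [Qf, quadFormPlus, piC, Fin.sum_univ_four, Equiv.swap_apply_def]; ring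

/-- With a fixed vector the characteristic polynomial is defined over the prime field. -/
theorem charpoly_sq {A : Matrix IJ IJ K} {n : ℕ} (h : Ss A n) (ht : Tw A) (hne : fixed A ≠ ⊥) :
    A.charpoly.map (sq K) = A.charpoly := by
  obtain ⟨v, hv, hQ⟩ := h.exists_nonsing hne
  have hu : IsUnit (LinearMap.toMatrix' (lmul v)) := by
    refine Matrix.mulVec_injective_iff_isUnit.1 fun a b e => lmul_injective hQ ?_
    rw [← LinearMap.toMatrix'_mulVec, ← LinearMap.toMatrix'_mulVec]
    exact e
  obtain ⟨L, hL⟩ := hu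
  have hcomm : (L : Matrix IJ IJ K) * phiB A = phiC A * L := by
    rw [hL]
    refine Matrix.mulVec_injective ?_
    funext y
    rw [← mulVec_mulVec, ← mulVec_mulVec, LinearMap.toMatrix'_mulVec, LinearMap.toMatrix'_mulVec]
    have e := ht v y
    rw [mem_fixed.1 hv] at e
    exact e
  have hC : phiC A = (L : Matrix IJ IJ K) * phiB A * (↑L⁻¹ : Matrix IJ IJ K) := by
    rw [hcomm, mul_assoc, L.mul_inv, mul_one]
  have hB' : ∀ (σ : K →+* K) (π : IJ ≃ IJ),
      ((A.map σ).submatrix π π).charpoly = A.charpoly.map σ := fun σ π => by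
    rw [← Matrix.charpoly_map, ← Matrix.charpoly_reindex π.symm (A.map σ), Matrix.reindex_apply, Equiv.symm_symm]
  have e : (phiC A).charpoly = (phiB A).charpoly := by
    rw [hC, Matrix.coe_units_inv, Matrix.charpoly_units_conj]
  rw [phiB, phiC, hB', hB', ← Polynomial.map_map] at e
  exact Polynomial.map_injective _ (sq K).injective e

theorem fixed_ne_six (hK : 2 < Fintype.card K) {A : Matrix IJ IJ K} {n : ℕ} (h : Ss A n) (ht : Tw A) :
    finrank K (fixed A) ≠ 6 := by
  classical
  intro h6
  have hB : Ss (phiB A) n := h.twist _ _ Qf_piB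
  have hC : Ss (phiC A) n := h.twist _ _ Qf_piC
  have dB : finrank K (fixed (phiB A)) = 6 := (finrank_fixed_twist A _ _).trans h6
  have dC : finrank K (fixed (phiC A)) = 6 := (finrank_fixed_twist A _ _).trans h6
  obtain ⟨u, hu, hQu⟩ := hB.exists_perp_nonsing (by omega)
  have hmap : ∀ w ∈ fixed A, ∀ y ∈ fixed (phiB A), omul w y ∈ fixed (phiC A) := fun w hw y hy => by
    have e := ht w y
    rw [mem_fixed.1 hw, mem_fixed.1 hy] at e
    exact mem_fixed.2 e.symm
  obtain ⟨v, hv, hQv⟩ := h.exists_nonsing (fun e => by rw [e, finrank_bot] at h6; omega)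
  have hns : ∀ w ∈ fixed A, Qf w ≠ 0 → ∀ z ∈ fixed (phiC A), pol z (omul w u) = 0 := by
    intro w hw hQw z hz
    have himg : (fixed (phiB A)).map (lmul w) = fixed (phiC A) := by
      refine Submodule.eq_of_le_of_finrank_eq ?_ ?_
      · rintro _ ⟨y, hy, rfl⟩; exact hmap w hw y hy
      · rw [← (Submodule.equivMapOfInjective _ (lmul_injective hQw) _).finrank_eq, dB, dC]
    obtain ⟨y, hy, rfl⟩ := himg.ge hz
    show pol (omul w y) (omul w u) = 0
    rw [pol_omul, hu y hy, mul_zero]
  have hall : ∀ w ∈ fixed A, ∀ z ∈ fixed (phiC A), pol z (omul w u) = 0 := by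
    intro w hw z hz
    by_cases hQw : Qf w = 0
    · obtain ⟨c, hc0, hc⟩ : ∃ c : K, c ≠ 0 ∧ pol w v + c * Qf v ≠ 0 := by
        obtain ⟨c, -, hc⟩ := Finset.exists_mem_notMem_of_card_lt_card (s := ({0, pol w v / Qf v} : Finset K))
          (t := Finset.univ) (lt_of_le_of_lt Finset.card_le_two (by rwa [Finset.card_univ]))
        simp only [Finset.mem_insert, Finset.mem_singleton, not_or] at hc
        exact ⟨c, hc.1, fun e => hc.2 (by rw [eq_div_iff hQv]; exact (CharTwo.add_eq_zero.1 e).symm)⟩
      have hne : Qf (w + c • v) ≠ 0 := by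
        rw [Qf_add, Qf_smul, pol_smul_right, hQw, zero_add,
          show c * c * Qf v + c * pol w v = c * (pol w v + c * Qf v) by ring]
        exact mul_ne_zero hc0 hc
      have e1 := hns _ (add_mem hw (Submodule.smul_mem _ c hv)) hne z hz
      rw [omul_add_left, omul_smul_left, pol_add_right, pol_smul_right, hns v hv hQv z hz, mul_zero, add_zero] at e1
      exact e1
    · exact hns w hw hQw z hz
  have h2 := hC.finrank_le_of_orth ((fixed A).map (rmul u)) (by
    rintro _ ⟨w, hw, rfl⟩ z hz
    exact hall w hw z hz)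
  rw [← (Submodule.equivMapOfInjective _ (rmul_injective hQu) _).finrank_eq, h6, dC] at h2
  omega

end Twist

end Cfsg.Agent.SpecD4Two
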