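import Cfsg.Agent.EqLemmas
import Cfsg.Agent.Lib.SpecD4Two.Eigen
import Mathlib.FieldTheory.IsAlgClosed.AlgebraicClosure
import Mathlib.FieldTheory.IsAlgClosed.Spectrum
import Mathlib.RingTheory.RootsOfUnity.PrimitiveRoots

/-!
# Orders of elements with fixed vectors

`odd_order_cases` : an element of odd order `m ∣ 3⁴·7²·13` with `Tw` and a fixed vector has `m ∈ {1,3,7,9}`,
with the fixed space of dimension at most `4, 2, 2` for `m = 3, 7, 9`.
-/

set_option autoImplicit false
set_option linter.unusedSectionVars false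
set_option linter.style.haveILetI false

namespace Cfsg.Agent.SpecD4Two

open Cfsg Matrix Module Polynomial
open Cfsg.Agent.Triality (IJ)

variable {K : Type*} [Field K] [CharP K 2] [Fintype K] {A : Matrix IJ IJ K} {n : ℕ}

local notation "KL" => AlgebraicClosure K

/-- The matrix over the algebraic closure. -/
noncomputable def extK (A : Matrix IJ IJ K) : Matrix IJ IJ KL := A.map (algebraMap K KL)

theorem extK_pow (A : Matrix IJ IJ K) (k : ℕ) : extK (A ^ k) = extK A ^ k := by
  exact map_pow ((algebraMap K KL).mapMatrix) A k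

theorem extK_one : extK (1 : Matrix IJ IJ K) = 1 := Matrix.map_one _ (map_zero _) (map_one _)

theorem extK_injective : Function.Injective (extK (K := K)) :=
  fun _ _ h => Matrix.map_injective (algebraMap K KL).injective h

theorem charpoly_extK (A : Matrix IJ IJ K) : (extK A).charpoly = A.charpoly.map (algebraMap K KL) :=
  Matrix.charpoly_map A _

theorem mem_spec_iff {μ : KL} : μ ∈ spectrum KL (extK A) ↔ (extK A).charpoly.IsRoot μ :=
  Matrix.mem_spectrum_iff_isRoot_charpoly

theorem root_sq (hp : A.charpoly.map (sq K) = A.charpoly) {μ : KL} (h : μ ∈ spectrum KL (extK A)) :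
    μ ^ 2 ∈ spectrum KL (extK A) := by
  haveI : CharP KL 2 := charP_of_injective_algebraMap (algebraMap K KL).injective 2
  rw [mem_spec_iff, charpoly_extK, IsRoot, eval_map] at h ⊢
  conv_lhs => rw [← hp]
  rw [eval₂_map]
  have hc : (algebraMap K KL).comp (sq K) = (frobenius KL 2).comp (algebraMap K KL) :=
    RingHom.ext fun a => by simp [sq_apply, frobenius_def]
  have e := congrArg (frobenius KL 2) h
  rw [Polynomial.hom_eval₂, map_zero] at e
  rw [hc]
  exact e

theorem pow_of_root (hn : A ^ n = 1) {μ : KL} (h : μ ∈ spectrum KL (extK A)) : μ ^ n = 1 := by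
  have h1 := spectrum.pow_mem_pow (extK A) n h
  rw [← extK_pow, hn, extK_one, spectrum.one_eq] at h1
  exact h1

theorem root_inv (h : Ss A n) {μ : KL} (hμ : μ ∈ spectrum KL (extK A)) : μ⁻¹ ∈ spectrum KL (extK A) := by
  classical
  have hN : (A.submatrix Sum.swap Sum.swap)ᵀ * A = 1 := by
    ext i j
    have e := h.pol_mulVec (Pi.single i.swap 1) (Pi.single j 1)
    rw [Matrix.mulVec_single_one, Matrix.mulVec_single_one] at e
    rw [Matrix.mul_apply]
    refine Eq.trans ?_ (e.trans ?_)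
    · simp only [Matrix.transpose_apply, Matrix.submatrix_apply, pol, Fintype.sum_sum_type,
        Finset.sum_add_distrib, Sum.swap_inl, Sum.swap_inr, Matrix.col_apply]
      rw [add_comm]
      congr 1
      exact Finset.sum_congr rfl fun k _ => mul_comm _ _
    · rcases i with i | i <;> rcases j with j | j <;>
        simp [pol, Pi.single_apply, Matrix.one_apply, eq_comm]
  obtain ⟨k, hk⟩ : ∃ k, n = k + 1 := ⟨n - 1, by have := h.odd.pos; omega⟩
  have hN' : (A.submatrix Sum.swap Sum.swap)ᵀ = A ^ k :=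
    left_inv_eq_right_inv hN (by rw [← pow_succ', ← hk, h.pow])
  have hc : (A ^ k).charpoly = A.charpoly := by
    rw [← hN', Matrix.charpoly_transpose]
    exact Matrix.charpoly_reindex (Equiv.sumComm _ _) A
  have h1 := spectrum.pow_mem_pow (extK A) k hμ
  rw [← extK_pow, mem_spec_iff, charpoly_extK, hc, ← charpoly_extK, ← mem_spec_iff] at h1
  have e : μ ^ k * μ = 1 := by rw [← pow_succ, ← hk]; exact pow_of_root h.pow hμ
  rwa [← eq_inv_of_mul_eq_one_left e]

theorem pow_eq_one_of_roots (hn : A ^ n = 1) (ho : Odd n) {k : ℕ} (hk : 0 < k)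
    (h : ∀ μ ∈ spectrum KL (extK A), μ ^ k = 1) : A ^ k = 1 := by
  haveI : CharP KL 2 := charP_of_injective_algebraMap (algebraMap K KL).injective 2
  haveI : CharP (Matrix IJ IJ KL) 2 := Matrix.charP 2
  have hroots : ∀ μ ∈ (extK A ^ k).charpoly.roots, μ = (1 : KL) := fun μ hμ => by
    have h1 : μ ∈ spectrum KL (extK A ^ k) :=
      Matrix.mem_spectrum_iff_isRoot_charpoly.2 (Polynomial.isRoot_of_mem_roots hμ)
    rw [spectrum.map_pow_of_pos _ hk] at h1
    obtain ⟨ν, hν, rfl⟩ := h1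
    exact h ν hν
  have hp : (extK A ^ k).charpoly = (Polynomial.X - Polynomial.C 1) ^ Fintype.card IJ := by
    have hs := (IsAlgClosed.splits (extK A ^ k).charpoly).eq_prod_roots_of_monic (Matrix.charpoly_monic _)
    have hcard := (IsAlgClosed.splits (extK A ^ k).charpoly).natDegree_eq_card_roots
    rw [Matrix.charpoly_natDegree_eq_dim] at hcard
    rw [hs, Multiset.eq_replicate_of_mem hroots, Multiset.map_replicate, Multiset.prod_replicate, hcard]
  have hch := Matrix.aeval_self_charpoly (extK A ^ k)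
  rw [hp, map_pow, map_sub, aeval_X, aeval_C, map_one, Fintype.card_sum, Fintype.card_fin,
    show 4 + 4 = 2 ^ 3 from rfl, sub_pow_char_pow_of_commute (p := 2) 3 (Commute.one_right _), one_pow,
    sub_eq_zero, ← pow_mul, ← extK_pow, ← extK_one (K := K)] at hch
  have h8 := extK_injective hch
  have hg := (pow_gcd_eq_one.2 ⟨h8, hn⟩ : A ^ Nat.gcd (k * 2 ^ 3) n = 1)
  have hdvd : Nat.gcd (k * 2 ^ 3) n ∣ k := by
    have hco : Nat.Coprime (Nat.gcd (k * 2 ^ 3) n) (2 ^ 3) :=
      (Nat.Coprime.pow_right 3 (Nat.coprime_two_right.2 ho)).coprime_dvd_left (Nat.gcd_dvd_right _ _)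
    exact hco.dvd_of_dvd_mul_right (Nat.gcd_dvd_left _ _)
  obtain ⟨c, hc⟩ := hdvd
  rw [hc, pow_mul, hg, one_pow]

/-- The eigenvalues different from `1`. -/
noncomputable def others (A : Matrix IJ IJ K) : Finset KL := by
  classical exact (extK A).charpoly.roots.toFinset.erase 1

theorem mem_others {μ : KL} : μ ∈ others A ↔ μ ≠ 1 ∧ μ ∈ spectrum KL (extK A) := by
  classical
  rw [others, Finset.mem_erase, Multiset.mem_toFinset, mem_spec_iff,
    Polynomial.mem_roots (Matrix.charpoly_monic _).ne_zero]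

theorem card_others : (others A).card + finrank K (fixed A) ≤ 8 := by
  classical
  set p := (extK A).charpoly
  have hd : finrank K (fixed A) ≤ p.roots.count 1 := by
    have h1 := LinearMap.finrank_eigenspace_le (Matrix.toLin' A) (1 : K)
    have e : Module.End.eigenspace (Matrix.toLin' A) (1 : K) = fixed A := by
      ext v; rw [Module.End.mem_eigenspace_iff, one_smul, Matrix.toLin'_apply, mem_fixed]
    rw [e, Matrix.charpoly_toLin'] at h1
    rw [Polynomial.count_roots]
    refine h1.trans ?_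
    have h2 := Polynomial.le_rootMultiplicity_map (p := A.charpoly) (f := algebraMap K KL)
      ((Polynomial.map_ne_zero_iff (algebraMap K KL).injective).2 (Matrix.charpoly_monic A).ne_zero) (1 : K)
    rwa [map_one, ← charpoly_extK] at h2
  have h3 : (others A).card + p.roots.count 1 ≤ Multiset.card p.roots := by
    have : (others A).val + Multiset.replicate (p.roots.count 1) 1 ≤ p.roots := by
      rw [Multiset.le_iff_count]
      intro a
      rw [Multiset.count_add, Multiset.count_replicate]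
      by_cases ha : a = 1
      · subst ha
        rw [Multiset.count_eq_zero.2 (fun h => (mem_others.1 h).1 rfl), if_pos rfl, zero_add]
      · rw [if_neg (Ne.symm ha), add_zero]
        by_cases hm : a ∈ others A
        · rw [Multiset.count_eq_one_of_mem (others A).nodup hm]
          exact Multiset.one_le_count_iff_mem.2
            ((Polynomial.mem_roots (Matrix.charpoly_monic _).ne_zero).2 (mem_spec_iff.1 (mem_others.1 hm).2))
        · rw [Multiset.count_eq_zero.2 (fun h => hm h)]; exact Nat.zero_le _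
    have h4 := Multiset.card_le_card this
    rwa [Multiset.card_add, Multiset.card_replicate] at h4
  have h5 : Multiset.card p.roots ≤ 8 := (Polynomial.card_roots' p).trans (by
    rw [Matrix.charpoly_natDegree_eq_dim]; simp)
  omega

/-- Exponents in the orbit of `1` under doubling and negation. -/
def Orb (k : ℕ) (E : List ℕ) : Prop := ∀ e ∈ E, ∃ i < k, e = 2 ^ i % k ∨ (e + 2 ^ i) % k = 0

theorem orbit_subset (h : Ss A n) (hp : A.charpoly.map (sq K) = A.charpoly) {μ : KL} {k : ℕ}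
    (hμ : IsPrimitiveRoot μ k) (hm : μ ∈ spectrum KL (extK A)) {E : List ℕ} (hE : Orb k E)
    (hlt : ∀ e ∈ E, 0 < e ∧ e < k) :
    ∀ x ∈ E.map (μ ^ ·), x ∈ others A ∧ ∃ e ∈ E, x = μ ^ e := by
  intro x hx
  obtain ⟨e, he, rfl⟩ := List.mem_map.1 hx
  refine ⟨mem_others.2 ⟨hμ.pow_ne_one_of_pos_of_lt (hlt e he).1.ne' (hlt e he).2, ?_⟩, e, he, rfl⟩
  have hsq : ∀ i : ℕ, μ ^ (2 ^ i) ∈ spectrum KL (extK A) := fun i => by
    induction i with
    | zero => rwa [pow_zero, pow_one]
    | succ i ih => rw [pow_succ, pow_mul]; exact root_sq hp ih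
  obtain ⟨i, -, hi | hi⟩ := hE e he
  · rw [hi, ← pow_mod_orderOf μ, ← hμ.eq_orderOf, Nat.mod_mod, hμ.eq_orderOf, pow_mod_orderOf]
    exact hsq i
  · have e1 : μ ^ e * μ ^ (2 ^ i) = 1 := by
      rw [← pow_add, hμ.pow_eq_one_iff_dvd]; exact Nat.dvd_of_mod_eq_zero hi
    rw [eq_inv_of_mul_eq_one_left e1]
    exact root_inv h (hsq i)

theorem nodup_pows {μ : KL} {k : ℕ} (hμ : IsPrimitiveRoot μ k) {E : List ℕ} (hn : E.Nodup)
    (hlt : ∀ e ∈ E, 0 < e ∧ e < k) : (E.map (μ ^ ·)).Nodup :=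
  hn.map_on fun a ha b hb e => hμ.pow_inj (hlt a ha).2 (hlt b hb).2 e

theorem orbit_card (h : Ss A n) (hp : A.charpoly.map (sq K) = A.charpoly) {μ : KL} {k : ℕ}
    (hμ : IsPrimitiveRoot μ k) (hm : μ ∈ spectrum KL (extK A)) {E : List ℕ} (hE : Orb k E) (hn : E.Nodup)
    (hlt : ∀ e ∈ E, 0 < e ∧ e < k) : E.length + finrank K (fixed A) ≤ 8 := by
  classical
  refine le_trans (Nat.add_le_add_right ?_ _) (card_others (A := A))
  rw [← List.length_map (μ ^ ·), ← List.toFinset_card_of_nodup (nodup_pows hμ hn hlt)]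
  exact Finset.card_le_card fun x hx => (orbit_subset h hp hμ hm hE hlt x (List.mem_toFinset.1 hx)).1

theorem orbit_card_two (h : Ss A n) (hp : A.charpoly.map (sq K) = A.charpoly) {μ ν : KL}
    (hμ : IsPrimitiveRoot μ 7) (hm : μ ∈ spectrum KL (extK A)) (hν : IsPrimitiveRoot ν 3)
    (hn : ν ∈ spectrum KL (extK A)) : 8 + finrank K (fixed A) ≤ 8 := by
  classical
  refine le_trans (Nat.add_le_add_right ?_ _) (card_others (A := A))
  have h7 : ∀ e ∈ [1, 2, 4, 3, 5, 6], 0 < e ∧ e < 7 := by decide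
  have h3 : ∀ e ∈ [1, 2], 0 < e ∧ e < 3 := by decide
  have o7 : Orb 7 [1, 2, 4, 3, 5, 6] := by unfold Orb; decide
  have o3 : Orb 3 [1, 2] := by unfold Orb; decide
  have hnd : (([1, 2, 4, 3, 5, 6] : List ℕ).map (μ ^ ·) ++ ([1, 2] : List ℕ).map (ν ^ ·)).Nodup := by
    rw [List.nodup_append]
    refine ⟨nodup_pows hμ (by decide) h7, nodup_pows hν (by decide) h3, fun x hx y hy hxy => ?_⟩
    obtain ⟨hxo, e, he, rfl⟩ := orbit_subset h hp hμ hm o7 h7 x hx
    obtain ⟨-, f, hf, rfl⟩ := orbit_subset h hp hν hn o3 h3 y hy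
    have q1 : (μ ^ e) ^ 7 = 1 := by rw [← pow_mul, mul_comm, pow_mul, hμ.pow_eq_one, one_pow]
    have q2 : (μ ^ e) ^ 3 = 1 := by rw [hxy, ← pow_mul, mul_comm, pow_mul, hν.pow_eq_one, one_pow]
    have q := (pow_gcd_eq_one.2 ⟨q1, q2⟩ : (μ ^ e) ^ Nat.gcd 7 3 = 1)
    rw [show Nat.gcd 7 3 = 1 from rfl, pow_one] at q
    exact (mem_others.1 hxo).1 q
  calc 8 = ((([1, 2, 4, 3, 5, 6] : List ℕ).map (μ ^ ·) ++ ([1, 2] : List ℕ).map (ν ^ ·)).toFinset).card := by
        rw [List.toFinset_card_of_nodup hnd]; rfl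
    _ ≤ _ := Finset.card_le_card fun x hx => by
        rcases List.mem_append.1 (List.mem_toFinset.1 hx) with hx | hx
        · exact (orbit_subset h hp hμ hm o7 h7 x hx).1
        · exact (orbit_subset h hp hν hn o3 h3 x hx).1

theorem Ss.pow' (h : Ss A n) (j : ℕ) : Ss (A ^ j) n := by
  refine ⟨?_, by rw [← pow_mul, mul_comm, pow_mul, h.pow, one_pow], h.odd⟩
  induction j with
  | zero => simp
  | succ j ih => intro x; rw [pow_succ, ← mulVec_mulVec, ih, h.iso]

theorem Tw.pow (h : Tw A) : ∀ j : ℕ, Tw (A ^ j)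
  | 0 => by rw [pow_zero]; exact Tw.one
  | j + 1 => by rw [pow_succ]; exact (Tw.pow h j).mul h

theorem fixed_le_pow (A : Matrix IJ IJ K) (j : ℕ) : fixed A ≤ fixed (A ^ j) := fun _ hv => pow_fix hv j

/-- A root of full prime power order. -/
theorem exists_root (hs : Ss A n) {q e : ℕ} (hq : q.Prime) (hA : A ^ q ^ (e + 1) = 1) (hne : A ^ q ^ e ≠ 1) :
    ∃ μ ∈ spectrum KL (extK A), IsPrimitiveRoot μ (q ^ (e + 1)) := by
  have h : ∃ μ ∈ spectrum KL (extK A), μ ^ q ^ e ≠ 1 := by
    by_contra hc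
    push Not at hc
    exact hne (pow_eq_one_of_roots hs.pow hs.odd (pow_pos hq.pos _) hc)
  obtain ⟨μ, hμ, hne'⟩ := h
  haveI : Fact q.Prime := ⟨hq⟩
  exact ⟨μ, hμ, IsPrimitiveRoot.iff_orderOf.2 (orderOf_eq_prime_pow hne' (pow_of_root hA hμ))⟩

/-- The cases. -/
theorem odd_order_cases (hK : 2 < Fintype.card K) {m : ℕ} (hs : Ss A m) (ht : Tw A)
    (hord : ∀ k, A ^ k = 1 → m ∣ k) (hm : m ∣ 3 ^ 4 * 7 ^ 2 * 13) (hd : fixed A ≠ ⊥) :
    m = 1 ∨ (m = 3 ∧ finrank K (fixed A) ≤ 4) ∨ ((m = 7 ∨ m = 9) ∧ finrank K (fixed A) ≤ 2) := by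
  have hd1 : 1 ≤ finrank K (fixed A) := Submodule.one_le_finrank_iff.2 hd
  have key : ∀ k, 1 < k → k ∣ m → ∃ B : Matrix IJ IJ K, Ss B m ∧ B.charpoly.map (sq K) = B.charpoly ∧
      (∀ j, B ^ j = 1 ↔ k ∣ j) ∧ finrank K (fixed A) ≤ finrank K (fixed B) := by
    intro k hk1 hk
    obtain ⟨c, rfl⟩ := hk
    have hc : 0 < c := Nat.pos_of_ne_zero fun e => by subst e; simpa using hs.odd.pos
    have hne : fixed (A ^ c) ≠ ⊥ := fun e => hd (eq_bot_iff.2 (e ▸ fixed_le_pow A c))
    refine ⟨A ^ c, hs.pow' c, charpoly_sq (hs.pow' c) (ht.pow c) hne, fun j => ?_,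
      Submodule.finrank_mono (fixed_le_pow A c)⟩
    rw [← pow_mul]
    constructor
    · intro h
      exact Nat.dvd_of_mul_dvd_mul_left hc (by rw [mul_comm c k]; exact hord _ h)
    · rintro ⟨j, rfl⟩
      rw [show c * (k * j) = k * c * j by ring, pow_mul, hs.pow, one_pow]
  have big : ∀ q e : ℕ, q.Prime → ∀ E : List ℕ, Orb (q ^ (e + 1)) E → E.Nodup →
      (∀ x ∈ E, 0 < x ∧ x < q ^ (e + 1)) → q ^ (e + 1) ∣ m → E.length + finrank K (fixed A) ≤ 8 := by
    intro q e hq E hE hn hlt hdvd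
    obtain ⟨B, hB, hp, hiff, hle⟩ := key _ (Nat.one_lt_pow (by omega) hq.one_lt) hdvd
    obtain ⟨μ, hμ, hprim⟩ := exists_root hB hq ((hiff _).2 dvd_rfl)
      (fun h => absurd ((Nat.pow_dvd_pow_iff_le_right hq.one_lt).1 ((hiff _).1 h)) (by omega))
    have := orbit_card hB hp hprim hμ hE hn hlt
    omega
  have n13 : ¬ 13 ∣ m := fun h => by
    have := big 13 0 (by norm_num) [1, 2, 4, 8, 3, 6, 12, 11, 9, 5, 10, 7] (by unfold Orb; decide) (by decide)
      (by decide) (by simpa using h)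
    simp at this; omega
  have n27 : ¬ 27 ∣ m := fun h => by
    have := big 3 2 (by norm_num) [1, 2, 4, 8, 16, 5, 10, 20, 13] (by unfold Orb; decide +kernel) (by decide)
      (by decide) (by simpa using h)
    simp at this; omega
  have n49 : ¬ 49 ∣ m := fun h => by
    have := big 7 1 (by norm_num) [1, 2, 4, 8, 16, 32, 15, 30, 11] (by unfold Orb; decide +kernel) (by decide)
      (by decide) (by simpa using h)
    simp at this; omega
  have n21 : ¬ 21 ∣ m := fun h => by
    obtain ⟨B, hB, hp, hiff, hle⟩ := key 21 (by norm_num) h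
    have hroot : ∀ μ ∈ spectrum KL (extK B), μ ^ 21 = 1 := fun μ hμ => pow_of_root ((hiff 21).2 dvd_rfl) hμ
    by_cases hex : ∃ μ ∈ spectrum KL (extK B), μ ^ 3 ≠ 1 ∧ μ ^ 7 ≠ 1
    · obtain ⟨μ, hμ, h3, h7⟩ := hex
      have hprim : IsPrimitiveRoot μ 21 := by
        rw [IsPrimitiveRoot.iff_orderOf]
        have hdv : orderOf μ ∣ 21 := orderOf_dvd_of_pow_eq_one (hroot μ hμ)
        have h1 : orderOf μ ∈ Nat.divisors 21 := Nat.mem_divisors.2 ⟨hdv, by norm_num⟩
        rw [show Nat.divisors 21 = {1, 3, 7, 21} by decide] at h1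
        simp only [Finset.mem_insert, Finset.mem_singleton] at h1
        rcases h1 with h1 | h1 | h1 | h1
        · exact absurd (orderOf_dvd_iff_pow_eq_one.1 (by rw [h1]; norm_num)) h3
        · exact absurd (orderOf_dvd_iff_pow_eq_one.1 (by rw [h1])) h3
        · exact absurd (orderOf_dvd_iff_pow_eq_one.1 (by rw [h1])) h7
        · exact h1
      have := orbit_card hB hp hprim hμ (E := [1, 2, 4, 8, 16, 11, 20, 19, 17, 13, 5, 10])
        (by unfold Orb; decide +kernel) (by decide) (by decide)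
      simp at this; omega
    · push Not at hex
      have hbad : ∀ k, 0 < k → ¬ 21 ∣ k → ¬ ∀ μ ∈ spectrum KL (extK B), μ ^ k = 1 := fun k hk hnd hall =>
        hnd ((hiff k).1 (pow_eq_one_of_roots hB.pow hB.odd hk hall))
      have a3 := hbad 3 (by norm_num) (by norm_num)
      have a7 := hbad 7 (by norm_num) (by norm_num)
      push Not at a3 a7
      obtain ⟨μ, hμ, hμ3⟩ := a3
      obtain ⟨ν, hν, hν7⟩ := a7
      haveI : Fact (Nat.Prime 7) := ⟨by norm_num⟩
      haveI : Fact (Nat.Prime 3) := ⟨by norm_num⟩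
      have pμ : IsPrimitiveRoot μ 7 := IsPrimitiveRoot.iff_orderOf.2
        (orderOf_eq_prime (hex μ hμ hμ3) (fun e => hμ3 (by rw [e, one_pow])))
      have pν : IsPrimitiveRoot ν 3 := IsPrimitiveRoot.iff_orderOf.2
        (orderOf_eq_prime (by_contra fun h => hν7 (hex ν hν h)) (fun e => hν7 (by rw [e, one_pow])))
      have := orbit_card_two hB hp pμ hμ pν hν
      omega
  have hm' : m ∣ 3 ^ 4 * 7 ^ 2 :=
    (Nat.Coprime.symm ((Nat.Prime.coprime_iff_not_dvd (by norm_num)).2 n13)).dvd_of_dvd_mul_right hm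
  obtain ⟨a, b, ha, hb, rfl⟩ := Nat.dvd_mul.1 hm'
  obtain ⟨i, hi, rfl⟩ := (Nat.dvd_prime_pow (by norm_num : Nat.Prime 3)).1 ha
  obtain ⟨j, hj, rfl⟩ := (Nat.dvd_prime_pow (by norm_num : Nat.Prime 7)).1 hb
  have hi2 : i ≤ 2 := by
    by_contra h
    exact n27 (dvd_mul_of_dvd_left (show 3 ^ 3 ∣ 3 ^ i from pow_dvd_pow 3 (by omega)) _)
  have hj1 : j ≤ 1 := by
    by_contra h
    exact n49 (dvd_mul_of_dvd_right (show 7 ^ 2 ∣ 7 ^ j from pow_dvd_pow 7 (by omega)) _)
  interval_cases i <;> interval_cases j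
  · exact .inl rfl
  · refine .inr (.inr ⟨.inl rfl, ?_⟩)
    have := big 7 0 (by norm_num) [1, 2, 4, 6, 5, 3] (by unfold Orb; decide) (by decide) (by decide) (by norm_num)
    simp at this; omega
  · refine .inr (.inl ⟨rfl, ?_⟩)
    have := big 3 0 (by norm_num) [1, 2] (by unfold Orb; decide) (by decide) (by decide) (by norm_num)
    simp at this
    have h6 := fixed_ne_six hK hs ht
    obtain ⟨r, hr⟩ := hs.even_fixed
    omega
  · exact absurd (by norm_num) n21
  · refine .inr (.inr ⟨.inr rfl, ?_⟩)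
    have := big 3 1 (by norm_num) [1, 2, 4, 8, 7, 5] (by unfold Orb; decide) (by decide) (by decide) (by norm_num)
    simp at this; omega
  · exact absurd (by norm_num) n21

end Cfsg.Agent.SpecD4Two
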