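import Cfsg.Agent.EqLemmas
import Cfsg.Agent.Lib.SpecD4Two.Roots
import Cfsg.Agent.Lib.TwistE6D4.Orders

/-!
# The norm of an element of `³D₄(2)` on the natural module

`norm_eq_zero` : `Σ_{i<n} gⁱ = 0` for an element of order `n ∉ {1,2,3,4,6,7,9}`.
-/

set_option autoImplicit false
set_option linter.unusedSectionVars false
set_option linter.style.haveILetI false

namespace Cfsg.Agent.SpecD4Two

open Cfsg Cfsg.Lie Matrix Cfsg.Agent.Orth Module
open Cfsg.Agent.Triality (IJ)

/-- A nilpotent map with a kernel of dimension at least two. -/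
theorem nil_bound {F V : Type*} [Field F] [AddCommGroup V] [Module F V] [FiniteDimensional F V] (f : Module.End F V)
    (hf : IsNilpotent f) (h2 : 2 ≤ finrank F (LinearMap.ker f)) : f ^ (finrank F V - 1) = 0 := by
  set d := finrank F V
  have hd : 2 ≤ d := h2.trans (Submodule.finrank_le _)
  obtain ⟨N, hN⟩ := hf
  have claim : ∀ i, 1 ≤ i → min (i + 1) d ≤ finrank F (LinearMap.ker (f ^ i)) := by
    intro i hi
    induction i, hi using Nat.le_induction with
    | base => rw [pow_one]; exact (min_le_left _ _).trans h2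
    | succ i hi ih =>
      by_cases he : LinearMap.ker (f ^ i) = LinearMap.ker (f ^ i.succ)
      · have h := Module.End.ker_pow_constant he N
        rw [pow_add f i N, hN, mul_zero, LinearMap.ker_zero] at h
        rw [show i + 1 = i.succ from rfl, ← he, h, finrank_top]
        exact min_le_right _ _
      · have hle : LinearMap.ker (f ^ i) ≤ LinearMap.ker (f ^ i.succ) := fun x hx => by
          rw [LinearMap.mem_ker] at hx ⊢
          rw [pow_succ', Module.End.mul_apply, hx, map_zero]
        have := Submodule.finrank_lt_finrank_of_lt (lt_of_le_of_ne hle he)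
        rw [show i + 1 = i.succ from rfl]
        omega
  have h := claim (d - 1) (by omega)
  rw [show d - 1 + 1 = d by omega, min_self] at h
  exact LinearMap.ker_eq_top.1 (Submodule.eq_top_of_finrank_eq (le_antisymm (Submodule.finrank_le _) h))

theorem sum_pow_eq_mul {R : Type*} [Ring R] (a : R) (b m : ℕ) :
    ∑ i ∈ Finset.range (b * m), a ^ i = (∑ j ∈ Finset.range b, a ^ j) * ∑ k ∈ Finset.range m, (a ^ b) ^ k := by
  induction m with
  | zero => simp
  | succ m ih =>
    rw [Nat.mul_succ, Finset.sum_range_add, ih, Finset.sum_range_succ (fun k => (a ^ b) ^ k), mul_add]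
    congr 1
    rw [Finset.sum_mul, ← pow_mul]
    exact Finset.sum_congr rfl fun j _ => by rw [← pow_add, add_comm]

variable {K : Type*} [Field K] [CharP K 2]

theorem geom_two_pow (a : Matrix IJ IJ K) (e : ℕ) :
    ∑ j ∈ Finset.range (2 ^ e), a ^ j = (a - 1) ^ (2 ^ e - 1) := by
  have h : ∑ j ∈ Finset.range (2 ^ e), (Polynomial.X : Polynomial K) ^ j = (Polynomial.X - 1) ^ (2 ^ e - 1) := by
    have hne : (Polynomial.X - 1 : Polynomial K) ≠ 0 := by
      rw [← map_one Polynomial.C]; exact Polynomial.X_sub_C_ne_zero 1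
    refine mul_left_cancel₀ hne ?_
    rw [mul_geom_sum, ← pow_succ', show 2 ^ e - 1 + 1 = 2 ^ e by have := Nat.one_le_two_pow (n := e); omega,
      sub_pow_char_pow (p := 2), one_pow]
  have := congrArg (Polynomial.aeval a) h
  simpa using this

variable [Fintype K]

/-- The matrix of an element. -/
noncomputable def matOf (ρ : ↥(twistedD4 K 2) →* O8 K) : ↥(twistedD4 K 2) →* Matrix IJ IJ K :=
  ((Units.coeHom (Matrix IJ IJ K)).comp (isometryGroup K ⇑(quadPlus 4 K)).subtype).comp ρ

theorem matOf_apply (ρ : ↥(twistedD4 K 2) →* O8 K) (g : ↥(twistedD4 K 2)) :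
    matOf ρ g = ((ρ g : GL IJ K) : Matrix IJ IJ K) := rfl

theorem matOf_iso (ρ : ↥(twistedD4 K 2) →* O8 K) (g : ↥(twistedD4 K 2)) (x : IJ → K) :
    Qf (matOf ρ g *ᵥ x) = Qf x := by
  have h := Orth.Q_ap (ρ g) x
  rwa [Orth.ap_apply] at h

theorem even_ker (ρ : ↥(twistedD4 K 2) →* O8 K) (g : ↥(twistedD4 K 2)) (hd : dick (ρ g) = 1) :
    Even (finrank K (LinearMap.ker (Matrix.toLin' (matOf ρ g) - LinearMap.id))) := by
  have e : Matrix.toLin' (matOf ρ g) = Orth.ap (ρ g) := rfl
  rw [e]
  have h : finrank K (LinearMap.range (Orth.ap (ρ g) - LinearMap.id)) +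
      finrank K (LinearMap.ker (Orth.ap (ρ g) - LinearMap.id)) = finrank K (IJ → K) :=
    LinearMap.finrank_range_add_finrank_ker _
  rw [dick, neg_one_pow_eq_one_iff_even (R := ℤ) (by norm_num)] at hd
  have hd' : Even (finrank K (LinearMap.range (Orth.ap (ρ g) - LinearMap.id))) := hd
  rw [Module.finrank_fintype_fun_eq_card, show Fintype.card IJ = 8 from rfl] at h
  exact (Nat.even_add.1 (h.symm ▸ (by decide : Even 8))).1 hd'

/-- The norm vanishes. -/
theorem norm_eq_zero (hK : Fintype.card K = 8) (ρ : ↥(twistedD4 K 2) →* O8 K) (hinj : Function.Injective ρ)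
    (htw : ∀ g, Tw ((ρ g : GL IJ K) : Matrix IJ IJ K)) (hdick : ∀ g, dick (ρ g) = 1) (g : ↥(twistedD4 K 2))
    (hn : orderOf g ∉ [1, 2, 3, 4, 6, 7, 9]) : ∑ i ∈ Finset.range (orderOf g), matOf ρ g ^ i = 0 := by
  have hfin : Finite ↥(twistedD4 K 2) := inferInstance
  set n := orderOf g
  have hn0 : n ≠ 0 := (orderOf_pos g).ne'
  obtain ⟨e, m, hm, hnm⟩ := Nat.exists_eq_two_pow_mul_odd hn0
  set a := matOf ρ g
  have hpowg : ∀ k, a ^ k = matOf ρ (g ^ k) := fun k => (map_pow _ _ _).symm
  set s := a ^ 2 ^ e with hsdef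
  have hs : Ss s m := ⟨fun x => by rw [hsdef, hpowg]; exact matOf_iso ρ _ x,
    by rw [hsdef, ← pow_mul, ← hnm, hpowg, pow_orderOf_eq_one, map_one], hm⟩
  have hts : Tw s := by rw [hsdef, hpowg]; exact htw _
  have hord : ∀ k, s ^ k = 1 → m ∣ k := fun k hk => by
    have h1 : matOf ρ (g ^ (2 ^ e * k)) = matOf ρ 1 := by rw [← hpowg, pow_mul, ← hsdef, hk, map_one]
    have h2 : g ^ (2 ^ e * k) = 1 := hinj (Subtype.ext (Units.ext h1))
    have h3 := orderOf_dvd_of_pow_eq_one h2
    rw [show orderOf g = 2 ^ e * m from hnm] at h3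
    exact Nat.dvd_of_mul_dvd_mul_left (pow_pos two_pos e) h3
  have hm' : m ∣ 3 ^ 4 * 7 ^ 2 * 13 := by
    have h1 : n ∣ Nat.card ↥(twistedD4 K 2) := orderOf_dvd_natCard g
    rw [TwistE6D4.card_twistedD4 (q := 2) Chev.DataD4.good ⟨2, 1, Nat.prime_iff.1 Nat.prime_two, one_pos, rfl⟩ hK] at h1
    have h2 : m ∣ 2 ^ 12 * (3 ^ 4 * 7 ^ 2 * 13) :=
      (Dvd.intro_left _ hnm.symm).trans (h1.trans (by norm_num))
    exact (Nat.Coprime.pow_right 12 (Nat.coprime_two_right.2 hm)).dvd_of_dvd_mul_left h2
  rw [hnm, sum_pow_eq_mul, geom_two_pow, ← hsdef]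
  refine Matrix.mulVec_injective ?_
  funext v
  rw [← mulVec_mulVec, Matrix.sum_mulVec, zero_mulVec]
  show (a - 1) ^ (2 ^ e - 1) *ᵥ avg s m v = 0
  have hw := hs.avg_mem v
  generalize avg s m v = w at hw
  by_cases hbot : fixed s = ⊥
  · rw [hbot, Submodule.mem_bot] at hw; rw [hw, mulVec_zero]
  set f : Module.End K (IJ → K) := Matrix.toLin' a - LinearMap.id with hfdef
  have hf : ∀ (k : ℕ) (x : IJ → K), (f ^ k) x = (a - 1) ^ k *ᵥ x := by
    intro k
    induction k with
    | zero => intro x; simp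
    | succ k ih =>
      intro x
      rw [pow_succ', Module.End.mul_apply, ih, pow_succ' (a - 1), ← mulVec_mulVec, hfdef, LinearMap.sub_apply,
        Matrix.toLin'_apply, LinearMap.id_apply, Matrix.sub_mulVec (A := a), one_mulVec]
  have hcomm : a * s = s * a := by rw [hsdef, ← pow_succ', ← pow_succ]
  have hinv : ∀ x ∈ fixed s, f x ∈ fixed s := fun x hx => by
    rw [mem_fixed] at hx ⊢
    rw [hfdef, LinearMap.sub_apply, Matrix.toLin'_apply, LinearMap.id_apply, mulVec_sub, mulVec_mulVec, ← hcomm,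
      ← mulVec_mulVec, hx]
  let f0 : Module.End K ↥(fixed s) := f.restrict hinv
  have hf0 : ∀ (k : ℕ) (x : ↥(fixed s)), ((f0 ^ k) x).1 = (f ^ k) x.1 := fun k x => by
    rw [Module.End.pow_restrict]; rfl
  haveI : CharP (Matrix IJ IJ K) 2 := Matrix.charP 2
  have hnil : f0 ^ 2 ^ e = 0 := by
    refine LinearMap.ext fun x => Subtype.ext ?_
    rw [hf0, hf, sub_pow_char_pow_of_commute (p := 2) e (Commute.one_right _), one_pow, ← hsdef,
      Matrix.sub_mulVec, one_mulVec, mem_fixed.1 x.2, sub_self]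
    rfl
  have hker : (LinearMap.ker f0).map (fixed s).subtype = LinearMap.ker f := by
    ext x
    constructor
    · rintro ⟨y, hy, rfl⟩
      exact congrArg Subtype.val (LinearMap.mem_ker.1 hy)
    · intro hx
      have hax : a *ᵥ x = x := by
        rw [LinearMap.mem_ker, hfdef, LinearMap.sub_apply, Matrix.toLin'_apply, LinearMap.id_apply, sub_eq_zero] at hx
        exact hx
      exact ⟨⟨x, pow_fix hax _⟩, LinearMap.mem_ker.2 (Subtype.ext (LinearMap.mem_ker.1 hx)), rfl⟩
  have hk2 : 2 ≤ finrank K (LinearMap.ker f0) := by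
    have he := even_ker ρ g (hdick g)
    rw [← hfdef, ← hker, (Submodule.equivMapOfInjective _ (fixed s).injective_subtype _).finrank_eq.symm] at he
    have hne : LinearMap.ker f0 ≠ ⊥ := fun h0 => by
      have hi : Function.Injective f0 := LinearMap.ker_eq_bot.1 h0
      have hi' : Function.Injective ((f0 ^ 2 ^ e : Module.End K ↥(fixed s))) := by
        rw [Module.End.coe_pow]; exact hi.iterate _
      rw [hnil] at hi'
      exact hbot (eq_bot_iff.2 fun x hx => by
        simpa using congrArg Subtype.val (hi' (a₁ := ⟨x, hx⟩) (a₂ := 0) rfl))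
    have h1 : 1 ≤ finrank K (LinearMap.ker f0) := Submodule.one_le_finrank_iff.2 hne
    obtain ⟨r, hr⟩ := he
    omega
  have hb := nil_bound f0 ⟨_, hnil⟩ hk2
  have hd : finrank K ↥(fixed s) ≤ 2 ^ e := by
    simp only [List.mem_cons, List.not_mem_nil, or_false, not_or] at hn
    rcases odd_order_cases (by omega) hs hts hord hm' hbot with h | ⟨h, hd⟩ | ⟨h, hd⟩
    · have he : 3 ≤ e := by
        by_contra hc
        rw [h, mul_one] at hnm
        interval_cases e <;> omega
      have := Nat.pow_le_pow_right (show 0 < 2 by norm_num) he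
      have := (Submodule.finrank_le (fixed s)).trans_eq (Module.finrank_fintype_fun_eq_card K)
      rw [show Fintype.card IJ = 8 from rfl] at this
      omega
    · have he : 2 ≤ e := by
        by_contra hc
        rw [h] at hnm
        interval_cases e <;> omega
      have := Nat.pow_le_pow_right (show 0 < 2 by norm_num) he
      omega
    · have he : 1 ≤ e := by
        by_contra hc
        obtain rfl : e = 0 := by omega
        rw [pow_zero, one_mul] at hnm
        omega
      have := Nat.pow_le_pow_right (show 0 < 2 by norm_num) he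
      omega
  have h0 : f0 ^ (2 ^ e - 1) = 0 := by
    rw [show 2 ^ e - 1 = (2 ^ e - finrank K ↥(fixed s)) + (finrank K ↥(fixed s) - 1) by
      have : 1 ≤ finrank K ↥(fixed s) := Submodule.one_le_finrank_iff.2 hbot
      omega, pow_add, hb, mul_zero]
  rw [← hf, ← hf0 _ ⟨w, hw⟩, h0]
  rfl

end Cfsg.Agent.SpecD4Two
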