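import Cfsg.Agent.EqLemmas
import Cfsg.Agent.Lib.SpecD4Two.Rep

/-!
# Elements of order 8, 12, 14 and 18 in `³D₄(2)`

Bit-coded arithmetic of the field with eight elements and of its `8 × 8` matrices; `exists_orders`.
-/

set_option autoImplicit false
set_option linter.unusedSectionVars false
set_option maxRecDepth 20000

namespace Cfsg.Agent.SpecD4Two

open Cfsg Cfsg.Lie Matrix Cfsg.Agent.Orth
open Cfsg.Agent.Triality (IJ)
open Cfsg.Agent.ChevOrth.D4 (MZ)

/-- Multiplication by `α`, where `α³ = α + 1`. -/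
def mA (a : Nat) : Nat := if Nat.testBit a 2 then Nat.xor (2 * a) 11 else 2 * a

/-- The product. -/
def fmul (a b : Nat) : Nat :=
  Nat.xor (Nat.xor (if Nat.testBit a 0 then b else 0) (if Nat.testBit a 1 then mA b else 0))
    (if Nat.testBit a 2 then mA (mA b) else 0)

/-- Row and column numbers. -/
def ix : IJ → Nat
  | .inl i => i.val
  | .inr i => 4 + i.val

/-- An entry. -/
def ent (M : List (List Nat)) (i j : Nat) : Nat := (M.getD i []).getD j 0

/-- The matrix product. -/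
def mmul (A B : List (List Nat)) : List (List Nat) :=
  (List.range 8).map fun i => (List.range 8).map fun j =>
    (List.range 8).foldl (fun s k => Nat.xor s (fmul (ent A i k) (ent B k j))) 0

/-- All entries in range. -/
def mOK (M : List (List Nat)) : Bool :=
  (List.range 8).all fun i => (List.range 8).all fun j => decide (ent M i j < 8)

/-- The identity. -/
def mId : List (List Nat) := (List.range 8).map fun i => (List.range 8).map fun j => if i = j then 1 else 0

/-- Powers. -/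
def mpow (M : List (List Nat)) : Nat → List (List Nat)
  | 0 => mId
  | n + 1 => mmul (mpow M n) M

/-- A root element. -/
def rootL (r t : Nat) : List (List Nat) :=
  (List.range 8).map fun i => (List.range 8).map fun j =>
    Nat.xor (if i = j then 1 else 0)
      (if (i = ix (ChevOrth.D4.wI r) ∧ j = ix (ChevOrth.D4.opp (ChevOrth.D4.uI r))) ∨
        (i = ix (ChevOrth.D4.uI r) ∧ j = ix (ChevOrth.D4.opp (ChevOrth.D4.wI r))) then t else 0)

variable {K : Type*} [Field K] [CharP K 2]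

theorem exists_alpha [Fintype K] (hK : Fintype.card K = 8) : ∃ α : K, α ^ 3 = α + 1 := by
  classical
  obtain ⟨x, -, hx⟩ := Finset.exists_mem_notMem_of_card_lt_card (s := ({0, 1} : Finset K)) (t := Finset.univ)
    (lt_of_le_of_lt Finset.card_le_two (by rw [Finset.card_univ, hK]; norm_num))
  simp only [Finset.mem_insert, Finset.mem_singleton, not_or] at hx
  have h8 := pow_eight hK x
  have h2 : (2 : K) = 0 := CharTwo.two_eq_zero
  have hf : x * (x + 1) * (x ^ 3 + x + 1) * (x ^ 3 + x ^ 2 + 1) = 0 := by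
    linear_combination h8 + (x ^ 7 + x ^ 6 + 2 * x ^ 5 + 2 * x ^ 4 + x ^ 3 + x ^ 2 + x) * h2
  rcases mul_eq_zero.1 hf with h | h
  · rcases mul_eq_zero.1 h with h | h
    · rcases mul_eq_zero.1 h with h | h
      · exact absurd h hx.1
      · exact absurd (CharTwo.add_eq_zero.1 h) hx.2
    · refine ⟨x, ?_⟩
      linear_combination h + (-x - 1) * h2
  · refine ⟨x⁻¹, ?_⟩
    have e1 : x⁻¹ ^ 3 * x ^ 3 = 1 := by rw [← mul_pow, inv_mul_cancel₀ hx.1, one_pow]
    have e2 : x⁻¹ ^ 3 * x ^ 2 = x⁻¹ := by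
      calc x⁻¹ ^ 3 * x ^ 2 = x⁻¹ * (x⁻¹ * x) ^ 2 := by ring
        _ = x⁻¹ := by rw [inv_mul_cancel₀ hx.1, one_pow, mul_one]
    linear_combination x⁻¹ ^ 3 * h - e1 - e2 + (-x⁻¹ - 1) * h2

variable {α : K}

/-- The value of a code. -/
def fv (α : K) (a : Nat) : K :=
  (if Nat.testBit a 0 then 1 else 0) + (if Nat.testBit a 1 then α else 0) + (if Nat.testBit a 2 then α ^ 2 else 0)

theorem fv_zero : fv α 0 = 0 := by simp [fv]

theorem fv_xor (a b : Nat) : fv α (Nat.xor a b) = fv α a + fv α b := by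
  have h : ∀ (p q : Bool) (c : K), (if (p ^^ q) = true then c else 0) =
      (if p = true then c else 0) + (if q = true then c else 0) := by
    intro p q c
    cases p <;> cases q <;> simp [CharTwo.add_self_eq_zero]
  show fv α (a ^^^ b) = _
  simp only [fv, Nat.testBit_xor]
  rw [h, h, h]
  abel

theorem fv_mA (hα : α ^ 3 = α + 1) {a : Nat} (ha : a < 8) : fv α (mA a) = α * fv α a ∧ mA a < 8 := by
  have h2 : (2 : K) = 0 := CharTwo.two_eq_zero
  interval_cases a <;> simp [fv, mA, Nat.testBit, Nat.xor, Nat.bitwise, mul_add] <;>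
    (try ring_nf) <;> (try simp [hα]) <;> (try ring_nf) <;> (try simp [h2])

theorem xor_lt {a b : Nat} (ha : a < 8) (hb : b < 8) : Nat.xor a b < 8 := Nat.xor_lt_two_pow (n := 3) ha hb

theorem fv_fmul (hα : α ^ 3 = α + 1) {a b : Nat} (ha : a < 8) (hb : b < 8) :
    fv α (fmul a b) = fv α a * fv α b ∧ fmul a b < 8 := by
  obtain ⟨e1, l1⟩ := fv_mA hα hb
  obtain ⟨e2, l2⟩ := fv_mA hα l1
  refine ⟨?_, ?_⟩
  · rw [fmul, fv_xor, fv_xor]
    conv_rhs => rw [fv, add_mul, add_mul]
    cases Nat.testBit a 0 <;> cases Nat.testBit a 1 <;> cases Nat.testBit a 2 <;>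
      simp [e1, e2, fv_zero] <;> ring
  · refine xor_lt (xor_lt ?_ ?_) ?_ <;> split_ifs <;> first | assumption | norm_num

/-- The matrix of a table. -/
def mv (α : K) (M : List (List Nat)) : Matrix IJ IJ K := fun a b => fv α (ent M (ix a) (ix b))

theorem ix_lt (a : IJ) : ix a < 8 := by rcases a with i | i <;> simp only [ix] <;> omega

theorem ent_map (g : Nat → Nat → Nat) {i j : Nat} (hi : i < 8) (hj : j < 8) :
    ent ((List.range 8).map fun i => (List.range 8).map fun j => g i j) i j = g i j := by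
  simp [ent, List.getD_eq_getElem?_getD, hi, hj]

theorem mv_mmul (hα : α ^ 3 = α + 1) {A B : List (List Nat)} (hA : mOK A = true) (hB : mOK B = true) :
    mv α (mmul A B) = mv α A * mv α B := by
  simp only [mOK, List.all_eq_true, List.mem_range, decide_eq_true_eq] at hA hB
  ext a b
  rw [mv, mmul, ent_map _ (ix_lt a) (ix_lt b), Matrix.mul_apply, Fintype.sum_sum_type, Fin.sum_univ_four,
    Fin.sum_univ_four]
  have key : ∀ k, k < 8 → fv α (fmul (ent A (ix a) k) (ent B k (ix b))) =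
      fv α (ent A (ix a) k) * fv α (ent B k (ix b)) := fun k hk =>
    (fv_fmul hα (hA _ (ix_lt a) k hk) (hB k hk _ (ix_lt b))).1
  simp only [show List.range 8 = [0, 1, 2, 3, 4, 5, 6, 7] from rfl, List.foldl_cons, List.foldl_nil, fv_xor,
    fv_zero, key 0 (by norm_num), key 1 (by norm_num), key 2 (by norm_num), key 3 (by norm_num),
    key 4 (by norm_num), key 5 (by norm_num), key 6 (by norm_num), key 7 (by norm_num)]
  simp only [mv, ix]
  norm_num
  abel

theorem mv_mId : mv α mId = 1 := by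
  ext a b
  rw [mv, mId, ent_map _ (ix_lt a) (ix_lt b), Matrix.one_apply]
  have : (ix a = ix b) ↔ a = b := by revert a b; decide
  simp only [this]
  split_ifs <;> simp [fv, Nat.testBit]

theorem mv_rootL (r t : Nat) (hr : r < 24) : mv α (rootL r t) = fM r (fv α t) := by
  ext a b
  rw [mv, rootL, ent_map _ (ix_lt a) (ix_lt b), fv_xor, fM, Matrix.add_apply, Matrix.smul_apply, ChevOrth.D4.matF,
    Matrix.map_apply, smul_eq_mul, Matrix.one_apply]
  have hix : ∀ p q : IJ, (ix p = ix q) ↔ p = q := by decide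
  have hdis : ∀ r < 24, ∀ a b : IJ, (MZ r a b).natAbs =
      if (ix a = ix (ChevOrth.D4.wI r) ∧ ix b = ix (ChevOrth.D4.opp (ChevOrth.D4.uI r))) ∨
        (ix a = ix (ChevOrth.D4.uI r) ∧ ix b = ix (ChevOrth.D4.opp (ChevOrth.D4.wI r))) then 1 else 0 := by
    decide +kernel
  have hc : (MZ r a b : K) = ((MZ r a b).natAbs : K) := by
    rw [← Int.cast_natCast]; exact cast_eq_of_natAbs (Int.natAbs_natCast _).symm
  rw [hc, hdis r hr a b]
  simp only [hix]
  congr 1
  · split_ifs <;> simp [fv, Nat.testBit]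
  · split_ifs <;> simp [fv_zero]

/-- The product of a word. -/
def wordL : List (Nat × Nat) → List (List Nat)
  | [] => mId
  | p :: w => mmul (rootL p.1 p.2) (wordL w)

/-- The checks of a word of a given order. -/
def wordOK (w : List (Nat × Nat)) (n : Nat) : Bool :=
  w.all (fun p => decide (p.1 < 24) && mOK (rootL p.1 p.2)) &&
    (List.range (w.length + 1)).all (fun k => mOK (wordL (w.drop k))) &&
    (List.range (n + 1)).all (fun k => mOK (mpow (wordL w) k)) &&
    (mpow (wordL w) n == mId) &&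
    ((List.range n).all fun k => k == 0 || n % k != 0 ||
      (List.range 64).any fun p => ent (mpow (wordL w) k) (p / 8) (p % 8) != ent mId (p / 8) (p % 8))

theorem mv_wordL (hα : α ^ 3 = α + 1) : ∀ w : List (Nat × Nat),
    (∀ p ∈ w, p.1 < 24 ∧ mOK (rootL p.1 p.2) = true) → (∀ k ≤ w.length, mOK (wordL (w.drop k)) = true) →
    mv α (wordL w) = (w.map fun p => fM p.1 (fv α p.2)).prod
  | [], _, _ => mv_mId
  | p :: w, h, hd => by
    rw [wordL, mv_mmul hα (h p List.mem_cons_self).2 (by simpa using hd 1 (by simp)), mv_rootL _ _ (h p List.mem_cons_self).1,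
      mv_wordL hα w (fun q hq => h q (List.mem_cons_of_mem _ hq)) (fun k hk => by simpa using hd (k + 1) (by simp [hk])),
      List.map_cons, List.prod_cons]

theorem fv_ne_zero (hα : α ^ 3 = α + 1) {a : Nat} (ha : a < 8) (ha0 : a ≠ 0) : fv α a ≠ 0 := by
  have h0 : α ≠ 0 := fun e => by simp [e] at hα
  have h1 : fv α 1 = 1 := by simp [fv, Nat.testBit]
  have key : ∀ j : Nat, fv α (mA^[j] 1) = α ^ j ∧ mA^[j] 1 < 8 := fun j => by
    induction j with
    | zero => exact ⟨by rw [pow_zero]; exact h1, by norm_num⟩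
    | succ j ih =>
      rw [Function.iterate_succ_apply']
      obtain ⟨e, hl⟩ := fv_mA hα ih.2
      exact ⟨by rw [e, ih.1, pow_succ'], hl⟩
  have hall : ∀ a < 8, a ≠ 0 → ∃ j < 7, mA^[j] 1 = a := by decide +kernel
  obtain ⟨j, -, rfl⟩ := hall a ha ha0
  rw [(key j).1]
  exact pow_ne_zero _ h0

theorem fv_inj (hα : α ^ 3 = α + 1) {a b : Nat} (ha : a < 8) (hb : b < 8) (h : fv α a = fv α b) : a = b := by
  by_contra hne
  refine fv_ne_zero hα (xor_lt ha hb) (fun e => hne (Nat.xor_eq_zero_iff.1 e)) ?_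
  rw [fv_xor, h, CharTwo.add_self_eq_zero]

theorem exists_ix {i : Nat} (hi : i < 8) : ∃ a, ix a = i := by
  rcases Nat.lt_or_ge i 4 with h | h
  · exact ⟨.inl ⟨i, h⟩, rfl⟩
  · exact ⟨.inr ⟨i - 4, by omega⟩, by simp [ix]; omega⟩

theorem ent_eq_of_mv (hα : α ^ 3 = α + 1) {A : List (List Nat)} (hA : mOK A = true) (h : mv α A = mv α mId)
    {i j : Nat} (hi : i < 8) (hj : j < 8) : ent A i j = ent mId i j := by
  obtain ⟨a, rfl⟩ := exists_ix hi
  obtain ⟨b, rfl⟩ := exists_ix hj
  simp only [mOK, List.all_eq_true, List.mem_range, decide_eq_true_eq] at hA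
  refine fv_inj hα (hA _ hi _ hj) ?_ (congrFun (congrFun h a) b)
  rw [mId, ent_map _ hi hj]
  split_ifs <;> norm_num

theorem orderOf_word (hα : α ^ 3 = α + 1) {G : Type*} [Group G] (f : G →* Matrix IJ IJ K)
    (hf : Function.Injective f) {g : G} {w : List (Nat × Nat)} {n : Nat} (hn : 0 < n)
    (hw : wordOK w n = true) (hg : f g = (w.map fun p => fM p.1 (fv α p.2)).prod) : orderOf g = n := by
  simp only [wordOK, Bool.and_eq_true, List.all_eq_true, List.mem_range, Bool.or_eq_true, List.any_eq_true,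
    decide_eq_true_eq, beq_iff_eq, bne_iff_ne] at hw
  obtain ⟨⟨⟨⟨hr, hd⟩, hp⟩, hid⟩, hne⟩ := hw
  have hW : f g = mv α (wordL w) := by
    rw [hg, mv_wordL hα w hr fun k hk => hd k (by omega)]
  have hpow : ∀ k ≤ n, f (g ^ k) = mv α (mpow (wordL w) k) := by
    intro k
    induction k with
    | zero => intro _; rw [pow_zero, map_one]; exact mv_mId.symm
    | succ k ih =>
      intro hk
      rw [pow_succ, map_mul, ih (by omega), hW, mpow, mv_mmul hα (hp k (by omega))]
      simpa using hd 0 (by omega)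
  have hgn : g ^ n = 1 := hf (by rw [hpow n le_rfl, hid, mv_mId, map_one])
  have hdvd := orderOf_dvd_of_pow_eq_one hgn
  by_contra hne'
  have hlt : orderOf g < n := lt_of_le_of_ne (Nat.le_of_dvd hn hdvd) hne'
  have hpos : orderOf g ≠ 0 := fun e => by rw [e] at hdvd; exact hn.ne' (Nat.eq_zero_of_zero_dvd hdvd)
  obtain (h | h) | ⟨p, hp64, hp'⟩ := hne _ hlt
  · exact hpos h
  · exact h (Nat.mod_eq_zero_of_dvd hdvd)
  · refine hp' (ent_eq_of_mv hα (hp _ (by omega)) ?_ (by omega) (by omega))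
    rw [← hpow _ hlt.le, pow_orderOf_eq_one, map_one, mv_mId]

/-- Words for the orders `8, 12, 14, 18`. -/
def theWords : List (List (Nat × Nat) × Nat) :=
  [([(14, 1), (18, 1), (13, 1), (12, 1)], 8),
   ([(14, 1), (18, 1), (13, 1), (12, 1), (5, 1), (10, 1), (11, 1)], 12),
   ([(14, 1), (18, 1), (13, 1), (12, 1), (5, 2), (10, 4), (11, 6), (18, 6), (13, 2), (12, 4)], 14),
   ([(14, 1), (18, 1), (13, 1), (12, 1), (5, 2), (10, 4), (11, 6)], 18)]

theorem theWords_ok : theWords.all (fun p => wordOK p.1 p.2) = true := by decide +kernel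

/-- The exponents. -/
theorem exists_orders [Fintype K] (hK : Fintype.card K = 8) (ρ : ↥(twistedD4 K 2) →* O8 K)
    (hinj : Function.Injective ρ)
    (hρ : ∀ (g : ↥(twistedD4 K 2)) (w : List (ℕ × K)), (∀ p ∈ w, p.1 < 24) →
      ((g : GL chevD4.Idx K) : Matrix chevD4.Idx chevD4.Idx K) = chevD4.wordMat K w →
      ((ρ g : GL IJ K) : Matrix IJ IJ K) = (w.map fun p => fM p.1 p.2).prod) :
    ∀ n ∈ [8, 12, 14, 18], ∃ g : ↥(twistedD4 K 2), orderOf g = n := by
  obtain ⟨α, hα⟩ := exists_alpha hK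
  have hgen : ∀ w ∈ d4Words K 2, ∃ g : ↥(twistedD4 K 2),
      ((g : GL chevD4.Idx K) : Matrix chevD4.Idx chevD4.Idx K) = chevD4.wordMat K w := by
    intro w hw
    obtain ⟨g, hg⟩ := exists_wordGL (K := K) w (d4Words_lt hw)
    exact ⟨⟨g, Subgroup.subset_closure ⟨w, hw, hg⟩⟩, hg⟩
  have hs : ∀ t, (fv α 1 : K) ^ 2 = fv α 1 ∧ t < 8 →
      fv α (fmul t t) = (fv α t : K) ^ 2 ∧ fv α (fmul (fmul t t) (fmul t t)) = (fv α t : K) ^ 4 := by
    rintro t ⟨-, ht⟩
    obtain ⟨e, l⟩ := fv_fmul hα ht ht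
    obtain ⟨e', -⟩ := fv_fmul hα l l
    exact ⟨by rw [e, pow_two], by rw [e', e]; ring⟩
  have h1 : (fv α 1 : K) = 1 := by simp [fv, Nat.testBit]
  obtain ⟨gL, hL⟩ := hgen [(14, (1 : K))] (Or.inl ⟨1, one_pow _, 14, List.mem_cons_self, rfl⟩)
  have hS : ∀ (a b c : ℕ), (a, b, c) = (18, 13, 12) ∨ (a, b, c) = (5, 10, 11) → ∀ t t2 t4 : ℕ, t < 8 →
      fmul t t = t2 → fmul t2 t2 = t4 → ∃ g : ↥(twistedD4 K 2), ((ρ g : GL IJ K) : Matrix IJ IJ K) =
        fM a (fv α t) * (fM b (fv α t2) * fM c (fv α t4)) := by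
    intro a b c habc t t2 t4 ht e2 e4
    obtain ⟨q2, q4⟩ := hs t ⟨by rw [h1, one_pow], ht⟩
    subst e2 e4
    have hw : [(a, fv α t), (b, (fv α t : K) ^ 2), (c, (fv α t : K) ^ 4)] ∈ d4Words K 2 :=
      Or.inr ⟨fv α t, (a, b, c), by simpa [d4p1, d4p3, d4p4, d4m1, d4m3, d4m4] using habc, by norm_num⟩
    obtain ⟨g, hg⟩ := hgen _ hw
    refine ⟨g, ?_⟩
    rw [hρ g _ (d4Words_lt hw) hg, q2, q4]
    simp
  obtain ⟨gA, hA⟩ := hS 18 13 12 (.inl rfl) 1 1 1 (by norm_num) (by decide +kernel) (by decide +kernel)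
  obtain ⟨gB, hB⟩ := hS 5 10 11 (.inr rfl) 1 1 1 (by norm_num) (by decide +kernel) (by decide +kernel)
  obtain ⟨gC, hC⟩ := hS 5 10 11 (.inr rfl) 2 4 6 (by norm_num) (by decide +kernel) (by decide +kernel)
  obtain ⟨gD, hD⟩ := hS 18 13 12 (.inl rfl) 6 2 4 (by norm_num) (by decide +kernel) (by decide +kernel)
  have hL' : ((ρ gL : GL IJ K) : Matrix IJ IJ K) = fM 14 (fv α 1) := by
    rw [hρ gL _ (by simp) hL, h1]; simp
  let f : ↥(twistedD4 K 2) →* Matrix IJ IJ K :=
    ((Units.coeHom (Matrix IJ IJ K)).comp (isometryGroup K ⇑(quadPlus 4 K)).subtype).comp ρ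
  have hf : Function.Injective f := fun a b e => hinj (Subtype.ext (Units.ext e))
  have hok := theWords_ok
  simp only [theWords, List.all_cons, List.all_nil, Bool.and_true, Bool.and_eq_true] at hok
  have e : ∀ g, f g = ((ρ g : GL IJ K) : Matrix IJ IJ K) := fun g => rfl
  intro n hn
  simp only [List.mem_cons, List.not_mem_nil, or_false] at hn
  rcases hn with rfl | rfl | rfl | rfl
  · refine ⟨gL * gA, orderOf_word hα f hf (by norm_num) hok.1 ?_⟩
    simp [map_mul, e, hL', hA, mul_assoc]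
  · refine ⟨gL * gA * gB, orderOf_word hα f hf (by norm_num) hok.2.1 ?_⟩
    simp [map_mul, e, hL', hA, hB, mul_assoc]
  · refine ⟨gL * gA * gC * gD, orderOf_word hα f hf (by norm_num) hok.2.2.1 ?_⟩
    simp [map_mul, e, hL', hA, hC, hD, mul_assoc]
  · refine ⟨gL * gA * gC, orderOf_word hα f hf (by norm_num) hok.2.2.2 ?_⟩
    simp [map_mul, e, hL', hA, hC, mul_assoc]

end Cfsg.Agent.SpecD4Two
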