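import Cfsg.Agent.EqLemmas
import Cfsg.Agent.Lib.SpecD4Two.Norm
import Cfsg.Agent.Lib.SpecD4Two.Witness
import Mathlib.GroupTheory.SemidirectProduct

/-!
# Arbitrarily large groups with the spectrum of `³D₄(2)`

`exists_isospectral` : sums of copies of the natural module, extended by the group.
-/

set_option autoImplicit false
set_option linter.unusedSectionVars false

namespace Cfsg.Agent.SpecD4Two

open Cfsg Cfsg.Lie Matrix Cfsg.Agent.Orth
open Cfsg.Agent.Triality (IJ)

variable {K : Type*} [Field K]

/-- Points without arithmetic. -/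
structure Pt (n : ℕ) : Type where
  /-- The number of the point. -/
  val : Fin n

/-- Points are numbered. -/
def ptEquiv (n : ℕ) : Fin n ≃ Pt n :=
  ⟨Pt.mk, Pt.val, fun _ => rfl, fun _ => rfl⟩

instance (n : ℕ) : Fintype (Pt n) := Fintype.ofEquiv _ (ptEquiv n)

theorem card_pt (n : ℕ) : Fintype.card (Pt n) = n :=
  (Fintype.card_congr (ptEquiv n)).symm.trans (Fintype.card_fin n)

/-- The module of `N` copies. -/
abbrev ModN (K : Type*) (N : ℕ) : Type _ := Multiplicative (Fin N → IJ → K)

/-- An element acting on every copy. -/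
def actN (N : ℕ) (u : GL IJ K) : MulAut (ModN K N) :=
  AddEquiv.toMultiplicative
    { toFun := fun v j => (u : Matrix IJ IJ K) *ᵥ v j
      invFun := fun v j => ((u⁻¹ : GL IJ K) : Matrix IJ IJ K) *ᵥ v j
      left_inv := fun v => funext fun j => by simp [Matrix.mulVec_mulVec]
      right_inv := fun v => funext fun j => by simp [Matrix.mulVec_mulVec]
      map_add' := fun v w => funext fun j => Matrix.mulVec_add _ _ _ }

theorem actN_apply (N : ℕ) (u : GL IJ K) (v : ModN K N) (j : Fin N) :
    (actN N u v).toAdd j = (u : Matrix IJ IJ K) *ᵥ v.toAdd j := rfl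

/-- The action as a homomorphism. -/
def actHom (N : ℕ) : GL IJ K →* MulAut (ModN K N) where
  toFun := actN N
  map_one' := MulEquiv.ext fun v => Multiplicative.toAdd.injective (funext fun j => by
    rw [actN_apply, Units.val_one, one_mulVec]; rfl)
  map_mul' u u' := MulEquiv.ext fun v => Multiplicative.toAdd.injective (funext fun j => by
    rw [MulAut.mul_apply, actN_apply, actN_apply, actN_apply, mulVec_mulVec, Units.val_mul])

variable [Fintype K] [CharP K 2]

/-- The main statement. -/
theorem exists_isospectral (hK : Fintype.card K = 8) (N : ℕ) :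
    ∃ (H : Type) (_ : Group H) (_ : Fintype H), N < Fintype.card H ∧
      Set.range (orderOf : H → ℕ) = Set.range (orderOf : twistedD4 K 2 → ℕ) := by
  classical
  obtain ⟨ρ, hinj, htw, hdick, hword⟩ := exists_rep hK
  have hwit := exists_orders hK ρ hinj hword
  let act : ↥(twistedD4 K 2) →* MulAut (ModN K N) :=
    (actHom N).comp ((isometryGroup K ⇑(quadPlus 4 K)).subtype.comp ρ)
  let H := ModN K N ⋊[act] ↥(twistedD4 K 2)
  have : Finite H := Finite.of_equiv _ SemidirectProduct.equivProd.symm
  let eq : H ≃ Pt (Nat.card H) := (Finite.equivFin H).trans (ptEquiv _)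
  let inst : Group (Pt (Nat.card H)) := eq.symm.group
  let iso : Pt (Nat.card H) ≃* H := { eq.symm with map_mul' := fun x y => show eq.symm (eq (eq.symm x * eq.symm y)) = _ from eq.symm_apply_apply _ }
  refine ⟨Pt (Nat.card H), inst, inferInstance, ?_, ?_⟩
  · rw [card_pt, SemidirectProduct.card]
    have h1 : Nat.card (ModN K N) = (8 ^ 8) ^ N := by
      rw [Nat.card_congr Multiplicative.toAdd, Nat.card_eq_fintype_card, Fintype.card_fun, Fintype.card_fun,
        hK, Fintype.card_fin]
      rfl
    rw [h1]
    exact lt_of_lt_of_le (Nat.lt_pow_self (by norm_num)) (Nat.le_mul_of_pos_right _ Nat.card_pos)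
  · have hr : Set.range (orderOf : Pt (Nat.card H) → ℕ) = Set.range (orderOf : H → ℕ) := by
      ext n
      exact ⟨fun ⟨x, hx⟩ => ⟨iso x, by rw [MulEquiv.orderOf_eq, hx]⟩,
        fun ⟨x, hx⟩ => ⟨iso.symm x, by rw [MulEquiv.orderOf_eq, hx]⟩⟩
    rw [hr]
    refine Set.Subset.antisymm ?_ ?_
    · rintro _ ⟨x, rfl⟩
      set n := orderOf x.right with hn
      have hright : ∀ k : ℕ, (x ^ k).right = x.right ^ k := fun k =>
        map_pow SemidirectProduct.rightHom x k
      have hleft : ∀ (k : ℕ) (j : Fin N), (x ^ k).left.toAdd j =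
          (∑ i ∈ Finset.range k, matOf ρ x.right ^ i) *ᵥ x.left.toAdd j := by
        intro k
        induction k with
        | zero => intro j; simp
        | succ k ih =>
          intro j
          rw [pow_succ, SemidirectProduct.mul_left, toAdd_mul, Pi.add_apply, ih, hright, Finset.sum_range_succ,
            Matrix.add_mulVec, ← map_pow]
          rfl
      have hdvd : n ∣ orderOf x := orderOf_dvd_of_pow_eq_one (by rw [← hright, pow_orderOf_eq_one]; rfl)
      by_cases h0 : ∑ i ∈ Finset.range n, matOf ρ x.right ^ i = 0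
      · refine ⟨x.right, ?_⟩
        have : x ^ n = 1 := SemidirectProduct.ext
          (Multiplicative.toAdd.injective (funext fun j => by rw [hleft, h0, zero_mulVec]; rfl))
          (by rw [hright]; exact pow_orderOf_eq_one _)
        exact Nat.dvd_antisymm hdvd (orderOf_dvd_of_pow_eq_one this)
      · have hmem : n ∈ [1, 2, 3, 4, 6, 7, 9] := by
          by_contra hc
          exact h0 (norm_eq_zero hK ρ hinj htw hdick x.right hc)
        have h2 : x ^ (n * 2) = 1 := by
          rw [pow_mul, pow_two]
          refine SemidirectProduct.ext (Multiplicative.toAdd.injective (funext fun j => ?_)) ?_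
          · rw [SemidirectProduct.mul_left, hright, pow_orderOf_eq_one, map_one, MulAut.one_apply, toAdd_mul]
            funext i
            exact CharTwo.add_self_eq_zero _
          · rw [SemidirectProduct.mul_right, hright, pow_orderOf_eq_one, one_mul]; rfl
        obtain ⟨c, hc⟩ := hdvd
        have hc2 : c ∣ 2 := Nat.dvd_of_mul_dvd_mul_left (Nat.pos_of_ne_zero (orderOf_pos x.right).ne')
          (hc ▸ orderOf_dvd_of_pow_eq_one h2)
        rcases (Nat.dvd_prime Nat.prime_two).1 hc2 with rfl | rfl
        · exact ⟨x.right, by rw [hc, mul_one]⟩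
        · have hdiv : ∀ q ∈ [1, 2, 3, 4, 6, 7, 9], ∃ k ∈ [8, 12, 14, 18], q * 2 ∣ k := by decide
          obtain ⟨k, hk, hqk⟩ := hdiv n hmem
          obtain ⟨g, hg⟩ := hwit k hk
          refine ⟨g ^ (k / (n * 2)), ?_⟩
          rw [orderOf_pow_of_dvd, hg, hc, Nat.div_div_self hqk]
          · intro e; rw [e] at hk; simp at hk
          · rw [Nat.div_ne_zero_iff]
            exact ⟨by have := orderOf_pos x.right; omega,
              Nat.le_of_dvd (Nat.pos_of_ne_zero fun e => by rw [e] at hk; simp at hk) hqk⟩
          · rw [hg]; exact Nat.div_dvd_of_dvd hqk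
    · rintro _ ⟨g, rfl⟩
      exact ⟨SemidirectProduct.inr g, orderOf_injective _ SemidirectProduct.inr_injective g⟩

end Cfsg.Agent.SpecD4Two
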